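import Cfsg.Agent.Lib.CharDeg.SmallDegree
import Cfsg.Agent.Lib.Char.CliffordCorr
import Cfsg.Agent.Lib.Char.Ito
import Cfsg.Agent.Lib.Solvable.Basic

/-!
# The Ito–Michler theorem for solvable groups

* `charDegree_dvd_of_constituent`: for `N` normal and `ϑ ∈ Irr N` under `χ ∈ Irr G`,
  `ϑ(1)` and the index of the inertia group divide `χ(1)`.
* `not_dvd_of_normal`, `not_dvd_of_quotient`: `p ∤ χ(1)` for all `χ` passes to normal subgroups
  and quotients.
* `sylow_normal_of_not_dvd`: `G` solvable, `p ∤ χ(1)` for all `χ` gives the Sylow `p`-subgroups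
  normal.
* `sylow_comm_of_not_dvd`: `P` normal `p`-subgroup, `p ∤ χ(1)` for all `χ` gives `P` abelian.
-/

set_option autoImplicit false

namespace Cfsg.Agent.Lib.CharDeg.ItoMichlerSolv

open Cfsg
open Cfsg.Agent.Lib.Char.Basic
open Cfsg.Agent.Lib.Char.Ortho
open Cfsg.Agent.Lib.Char.Complete
open Cfsg.Agent.Lib.Char.Clifford
open Cfsg.Agent.Lib.Char.CliffordCorr
open Cfsg.Agent.Lib.Char.Conj
open Cfsg.Agent.Lib.Char.Degree
open Cfsg.Agent.Lib.Char.Linear
open Cfsg.Agent.Lib.CharDeg.SmallDegree

universe u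

variable {G : Type u} [Group G] [Fintype G]

/-- Degree relation in `ℕ` over a constituent. -/
theorem charDegree_eq_mul_of_constituent {N : Subgroup G} [Fintype N] (hN : N.Normal)
    {χ : G → ℂ} (hχ : IsIrrCharacter G χ) {ϑ : N → ℂ} (hϑ : IsIrrCharacter N ϑ)
    (hcon : classInner (fun n : N => χ n) ϑ ≠ 0) :
    ∃ e : ℕ, charDegree χ = e * (inertia hN ϑ).index * charDegree ϑ := by
  obtain ⟨e, he⟩ := exists_nat_classInner
    (isCharacter_restrict N (isCharacter_of_isIrrCharacter hχ)) (isCharacter_of_isIrrCharacter hϑ)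
  refine ⟨e, ?_⟩
  have h1 := deg_eq_of_constituent hN hχ hϑ hcon
  have h2 : classInner (fun n : N => χ n) ϑ = (e : ℂ) := he
  rw [h2, ← charDegree_natCast (isCharacter_of_isIrrCharacter hχ),
    ← charDegree_natCast (isCharacter_of_isIrrCharacter hϑ)] at h1
  exact_mod_cast h1

/-- `p ∤ χ(1)` for all `χ` passes to normal subgroups. -/
theorem not_dvd_of_normal {p : ℕ} (hb : ∀ χ : IrrCharacter G, ¬ p ∣ charDegree (χ : G → ℂ))
    {N : Subgroup G} (hN : N.Normal) (ϑ : IrrCharacter N) : ¬ p ∣ charDegree (ϑ : N → ℂ) := by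
  classical
  letI : Fintype N := Fintype.ofFinite N
  obtain ⟨χ, hχ, hcon⟩ := exists_irr_constituent_restrict N ϑ.2
  obtain ⟨e, he⟩ := charDegree_eq_mul_of_constituent hN hχ ϑ.2 hcon
  intro hdvd
  apply hb ⟨χ, hχ⟩
  simp only
  rw [he]
  exact Dvd.dvd.mul_left hdvd _

omit [Fintype G] in
/-- `p ∤ χ(1)` for all `χ` passes to quotients. -/
theorem not_dvd_of_quotient {p : ℕ} (hb : ∀ χ : IrrCharacter G, ¬ p ∣ charDegree (χ : G → ℂ))
    {H : Type*} [Group H] [Finite H] (π : G →* H) (hπ : Function.Surjective π)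
    (φ : IrrCharacter H) : ¬ p ∣ charDegree (φ : H → ℂ) := by
  have h1 := hb ⟨(φ : H → ℂ) ∘ π, Cfsg.Agent.Lib.Char.Linear.isIrrCharacter_comp π hπ φ.2⟩
  have h2 : charDegree ((φ : H → ℂ) ∘ π) = charDegree (φ : H → ℂ) := by
    apply charDegree_eq_of_eq_natCast
    rw [charDegree_natCast (isCharacter_of_isIrrCharacter φ.2)]
    simp
  simpa [h2] using h1

/-- An abelian normal subgroup with a `p`-group as quotient and all degrees prime to `p` is
central. -/
theorem comm_of_not_dvd {p : ℕ} (hp : p.Prime)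
    (hb : ∀ χ : IrrCharacter G, ¬ p ∣ charDegree (χ : G → ℂ))
    {N : Subgroup G} (hN : N.Normal) (hcomm : ∀ x ∈ N, ∀ y ∈ N, x * y = y * x)
    (hq : IsPGroup p (G ⧸ N)) (g : G) (n : N) : g * n * g⁻¹ = n := by
  classical
  letI : Fintype N := Fintype.ofFinite N
  have hinv : ∀ ϑ : IrrCharacter N, inertia hN (ϑ : N → ℂ) = ⊤ := by
    intro ϑ
    obtain ⟨χ, hχ, hcon⟩ := exists_irr_constituent_restrict N ϑ.2
    obtain ⟨e, he⟩ := charDegree_eq_mul_of_constituent hN hχ ϑ.2 hcon
    rw [← Subgroup.index_eq_one]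
    have h1 : (inertia hN (ϑ : N → ℂ)).index ∣ N.index :=
      Subgroup.index_dvd_of_le (le_inertia hN (isClassFunction_of_isIrrCharacter ϑ.2))
    haveI : Fact p.Prime := ⟨hp⟩
    obtain ⟨k, hk⟩ := IsPGroup.iff_card.mp hq
    have h2 : N.index = p ^ k := by rw [Subgroup.index_eq_card]; exact hk
    rw [h2] at h1
    obtain ⟨j, -, hj⟩ := (Nat.dvd_prime_pow hp).mp h1
    rcases j with _ | j
    · simpa using hj
    · exfalso
      apply hb ⟨χ, hχ⟩
      simp only
      rw [he, hj, pow_succ]
      exact Dvd.dvd.mul_right (Dvd.dvd.mul_left (Dvd.intro_left _ rfl) _) _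
  have h1 : IsConj (⟨g * n * g⁻¹, hN.conj_mem n n.2 g⟩ : N) n := by
    rw [isConj_iff_forall_irr]
    intro ϑ
    have h2 : g ∈ inertia hN (ϑ : N → ℂ) := by rw [hinv]; trivial
    have h3 := congrFun ((mem_inertia hN _ g).mp h2) n
    exact h3
  obtain ⟨c, hc⟩ := isConj_iff.mp h1
  have h2 : c * ⟨g * n * g⁻¹, hN.conj_mem n n.2 g⟩ = ⟨g * n * g⁻¹, hN.conj_mem n n.2 g⟩ * c :=
    Subtype.ext (hcomm _ c.2 _ (hN.conj_mem n n.2 g))
  rw [h2, mul_inv_cancel_right] at hc
  exact congrArg Subtype.val hc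

/-- A solvable group with all degrees prime to `p` has normal Sylow `p`-subgroups. -/
theorem sylow_normal_of_not_dvd {p : ℕ} (hp : p.Prime) :
    ∀ (n : ℕ) (G : Type u) [Group G] [Finite G], Nat.card G = n → Group.IsSolvable G →
      (∀ χ : IrrCharacter G, ¬ p ∣ charDegree (χ : G → ℂ)) →
        ∀ P : Sylow p G, (P : Subgroup G).Normal := by
  intro n
  induction n using Nat.strong_induction_on with
  | _ n ih =>
    intro G _ _ hn hsolv hb P
    classical
    haveI : Fact p.Prime := ⟨hp⟩
    cases nonempty_fintype G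
    rcases subsingleton_or_nontrivial G with hsub | hnt
    · have : (P : Subgroup G) = ⊤ := Subsingleton.elim _ _
      rw [this]
      infer_instance
    obtain ⟨N, q, -, hNmin, hcomm, -⟩ := Cfsg.Agent.Lib.Solvable.Basic.exists_normal_elemAbelian (G := G)
    have hNn : N.Normal := hNmin.1
    have hN1 : N ≠ ⊥ := hNmin.2.1
    -- the quotient
    have hcardq : Nat.card (G ⧸ N) < n := by
      rw [← hn, ← Subgroup.index_eq_card]
      have h1 := Subgroup.card_mul_index N
      have h2 : 1 < Nat.card N := by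
        have := (Subgroup.one_lt_card_iff_ne_bot N).mpr hN1
        exact this
      have h3 : 0 < N.index := Nat.pos_of_ne_zero (Subgroup.index_ne_zero_of_finite)
      rw [← h1]
      nlinarith
    have hmk : Function.Surjective (QuotientGroup.mk' N) := QuotientGroup.mk'_surjective N
    have hPq := ih _ hcardq (G ⧸ N) rfl inferInstance
      (fun φ => not_dvd_of_quotient hb (QuotientGroup.mk' N) hmk φ) (Sylow.mapSurjective hmk P)
    rw [Sylow.coe_mapSurjective] at hPq
    have hKn : ((P : Subgroup G) ⊔ N).Normal := by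
      have h1 := hPq.comap (QuotientGroup.mk' N)
      rwa [Subgroup.comap_map_eq, QuotientGroup.ker_mk'] at h1
    set K := (P : Subgroup G) ⊔ N with hK
    by_cases hKtop : K = ⊤
    · -- `G / N` is a `p`-group, `N` is central
      have hq : IsPGroup p (G ⧸ N) := by
        refine IsPGroup.of_surjective P.isPGroup' ((QuotientGroup.mk' N).domRestrict (P : Subgroup G)) ?_
        intro x
        obtain ⟨g, rfl⟩ := hmk x
        have hg : g ∈ (P : Subgroup G) ⊔ N := by rw [← hK, hKtop]; trivial
        obtain ⟨u, hu, v, hv, rfl⟩ := Subgroup.mem_sup_of_normal_right.mp hg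
        refine ⟨⟨u, hu⟩, ?_⟩
        simp only [MonoidHom.domRestrict_apply]
        rw [map_mul]
        have hv1 : QuotientGroup.mk' N v = 1 := (QuotientGroup.eq_one_iff v).mpr hv
        rw [hv1, mul_one]
      have hcen : N ≤ Subgroup.center G := by
        intro x hx
        rw [Subgroup.mem_center_iff]
        intro g
        have := comm_of_not_dvd hp hb hNn hcomm hq g ⟨x, hx⟩
        simp only at this
        rw [mul_inv_eq_iff_eq_mul] at this
        exact this
      have hnorm : (Subgroup.normalizer ((P : Subgroup G) : Set G)) = ⊤ := by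
        rw [eq_top_iff, ← hKtop]
        exact sup_le Subgroup.le_normalizer (hcen.trans (Subgroup.center_le_normalizer _))
      exact Subgroup.normalizer_eq_top_iff.mp hnorm
    · -- induct on `K`
      have hcardK : Nat.card K < n := by
        rw [← hn]
        exact lt_of_le_of_ne (Subgroup.card_le_card_group K)
          (fun h => hKtop (Subgroup.eq_top_of_card_eq K h))
      have hPK : (P : Subgroup G) ≤ K := le_sup_left
      have hPn := ih _ hcardK K rfl inferInstance
        (fun θ => not_dvd_of_normal hb hKn θ) (P.subtype hPK)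
      have hchar := Sylow.characteristic_of_normal (P.subtype hPK) hPn
      rw [Sylow.coe_subtype] at hchar
      refine ⟨fun u hu g => ?_⟩
      have hc := Subgroup.characteristic_iff_comap_eq.mp hchar (MulAut.conjNormal g : K ≃* K)
      have hmem : (⟨u, hPK hu⟩ : K) ∈ ((P : Subgroup G).subgroupOf K) := by
        rw [Subgroup.mem_subgroupOf]
        exact hu
      rw [← hc] at hmem
      rw [Subgroup.mem_comap, Subgroup.mem_subgroupOf] at hmem
      simpa using hmem

/-- A normal `p`-subgroup of a group with degrees prime to `p` is abelian. -/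
theorem comm_of_normal_of_not_dvd {p : ℕ} (hp : p.Prime)
    (hb : ∀ χ : IrrCharacter G, ¬ p ∣ charDegree (χ : G → ℂ))
    {P : Subgroup G} (hPn : P.Normal) (hP : IsPGroup p P) (x y : P) : x * y = y * x := by
  classical
  haveI : Fact p.Prime := ⟨hp⟩
  refine (comm_iff_all_deg_one (G := P)).mpr ?_ x y
  intro θ
  have h1 := not_dvd_of_normal hb hPn θ
  have hdvd := charDegree_dvd_card θ.2
  obtain ⟨k, hk⟩ := IsPGroup.iff_card.mp hP
  rw [hk] at hdvd
  obtain ⟨j, -, hj⟩ := (Nat.dvd_prime_pow hp).mp hdvd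
  have hj0 : j = 0 := by
    by_contra hj0
    apply h1
    rw [hj]
    exact dvd_pow_self p hj0
  have h2 : charDegree (θ : P → ℂ) = 1 := by rw [hj, hj0, pow_zero]
  have h3 := charDegree_natCast (isCharacter_of_isIrrCharacter θ.2)
  rw [h2] at h3
  simpa using h3.symm

end Cfsg.Agent.Lib.CharDeg.ItoMichlerSolv
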