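import Cfsg.Agent.Lib.Char.OddIndexReal
import Cfsg.Agent.Lib.Char.Gallagher
import Cfsg.Agent.Lib.Char.Extend
import Cfsg.Agent.Lib.OddChar.GaloisConj
import Cfsg.Agent.Lib.Transfer.Basic
import Cfsg.Agent.Lib.CharZeros.Gallagher
import Cfsg.Agent.Lib.CharDeep.LinearChar
import Cfsg.Agent.Lib.Char.DegDvd
import Cfsg.Agent.Lib.Char.IndRep
import Cfsg.Agent.Lib.Char.CliffordCorr
import Mathlib

/-!
# Galois-fixed characters over a normal subgroup of odd index

`N ◁ G` of odd index, `k` coprime to `|G|` inverting the elements of odd order.  At most one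
irreducible character of `G` fixed by the power map `g ↦ g ^ k` lies over a given irreducible
character of `N`; if `θ` is `G`-invariant and power-fixed, it has a power-fixed extension.
-/

set_option autoImplicit false
set_option linter.unusedSectionVars false

namespace Cfsg.Agent.Lib.CharDeg.OddIndexGal

open Cfsg Module
open Cfsg.Agent.Lib.Char.Basic Cfsg.Agent.Lib.Char.Ortho Cfsg.Agent.Lib.Char.Complete
open Cfsg.Agent.Lib.Char.Conj Cfsg.Agent.Lib.Char.Clifford Cfsg.Agent.Lib.Char.OddIndexReal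
open Cfsg.Agent.Lib.Char.Induced
open Cfsg.Agent.Lib.CharZeros.Average
open Cfsg.Agent.Lib.OddChar.GaloisConj
open scoped ComplexConjugate

universe u

section Parity

variable {G : Type u} [Group G] [Fintype G] (N : Subgroup G) [hN : N.Normal] [Fintype N]

theorem mem_of_two_power (hodd : Odd N.index) {a : G} {j : ℕ} (ha : a ^ 2 ^ j = 1) : a ∈ N := by
  have hq : ((a : G ⧸ N)) ^ 2 ^ j = 1 := by
    rw [← QuotientGroup.mk_pow, ha]; rfl
  have h1 : orderOf (a : G ⧸ N) ∣ 2 ^ j := orderOf_dvd_of_pow_eq_one hq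
  have h2 : orderOf (a : G ⧸ N) ∣ Nat.card (G ⧸ N) := orderOf_dvd_natCard _
  have hcop : Nat.Coprime (2 ^ j) (Nat.card (G ⧸ N)) := by
    apply Nat.Coprime.pow_left
    have : Odd (Nat.card (G ⧸ N)) := hodd
    exact (Nat.coprime_two_left).mpr this
  have h3 : orderOf (a : G ⧸ N) = 1 := Nat.eq_one_of_dvd_coprimes hcop h1 h2
  exact (QuotientGroup.eq_one_iff _).mp (orderOf_eq_one_iff.mp h3)

/-- Every element is an odd-order element modulo `N` for a normal subgroup of odd index. -/
theorem exists_odd_rep (hodd : Odd N.index) (x : G) :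
    ∃ a b : G, x = a * b ∧ a ∈ N ∧ Odd (orderOf b) := by
  obtain ⟨a, b, hx, -, -, -, ⟨j, hj⟩, hb⟩ :=
    Cfsg.Agent.Lib.Transfer.Basic.exists_pPart_decomp (p := 2) x
  refine ⟨a, b, hx, mem_of_two_power N hodd hj, ?_⟩
  exact Nat.Coprime.odd_of_right hb

theorem avg_left {ξ : G → ℂ} (x : G) (n : G) (hn : n ∈ N) : avg N ξ (n * x) = avg N ξ x := by
  rw [avg_apply, avg_apply]
  congr 1
  have : ∀ m : N, ξ ((m : G) * (n * x)) = ξ (((m * ⟨n, hn⟩ : N) : G) * x) := by
    intro m
    simp [mul_assoc]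
  simp_rw [this]
  exact Equiv.sum_comp (Equiv.mulRight (⟨n, hn⟩ : N)) (fun m : N => ξ ((m : G) * x))

theorem avg_right {ξ : G → ℂ} (x : G) (n : G) (hn : n ∈ N) : avg N ξ (x * n) = avg N ξ x := by
  have : x * n = (x * n * x⁻¹) * x := by group
  rw [this]
  exact avg_left N x _ (hN.conj_mem n hn x)

/-- A power-fixed character has a real average. -/
theorem avg_real (hodd : Odd N.index) {k : ℕ} (hk : k.Coprime (Nat.card G))
    (hk₂ : ∀ g : G, Odd (orderOf g) → g ^ k = g⁻¹) {ξ : G → ℂ} (hξ : IsCharacter G ξ)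
    (hξk : ∀ g, ξ (g ^ k) = ξ g) (x : G) : conj (avg N ξ x) = avg N ξ x := by
  obtain ⟨σ, hσ⟩ := exists_ringEquiv_pow (Nat.card G) k Nat.card_pos.ne' hk
  have hσ' : ∀ z : ℂ, z ^ Nat.card G = 1 → (σ : ℂ →+* ℂ) z = z ^ k := fun z hz => hσ z hz
  have hfix : ∀ g, σ (ξ g) = ξ g := by
    intro g
    have := comp_character_eq (f := (σ : ℂ →+* ℂ)) hσ' dvd_rfl hξ g
    rw [hξk] at this
    exact this
  have hPchar := isCharacter_avg N hξ
  have hσP : ∀ g, σ (avg N ξ g) = avg N ξ g := by
    intro g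
    rw [avg_apply, map_mul, map_sum, map_inv₀, map_natCast]
    simp_rw [hfix]
  have hPk : ∀ g, avg N ξ (g ^ k) = avg N ξ g := by
    intro g
    have := comp_character_eq (f := (σ : ℂ →+* ℂ)) hσ' dvd_rfl hPchar g
    rw [← this]
    exact hσP g
  obtain ⟨a, b, rfl, ha, hb⟩ := exists_odd_rep N hodd x
  rw [← char_inv_eq_conj hPchar, mul_inv_rev, avg_right N _ _ (inv_mem ha), avg_left N _ _ ha,
    ← hk₂ b hb, hPk]

theorem classInner_avg_one {ξ : G → ℂ} :
    classInner (avg N ξ) (fun _ => (1 : ℂ)) = classInner ξ (fun _ => (1 : ℂ)) := by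
  simp only [classInner_def, map_one, mul_one]
  congr 1
  simp_rw [avg_apply]
  rw [← Finset.mul_sum, Finset.sum_comm]
  have h1 : ∀ n : N, ∑ x : G, ξ ((n : G) * x) = ∑ x : G, ξ x := fun n =>
    Equiv.sum_comp (Equiv.mulLeft (n : G)) ξ
  simp_rw [h1]
  rw [Finset.sum_const, Finset.card_univ, nsmul_eq_mul, ← Nat.card_eq_fintype_card,
    ← mul_assoc, inv_mul_cancel₀ (card_N_ne_zero N), one_mul]

theorem classInner_restrict_avg_one {ξ : G → ℂ} :
    classInner (fun n : N => avg N ξ n) (fun _ => (1 : ℂ)) =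
      classInner (fun n : N => ξ n) (fun _ => (1 : ℂ)) := by
  have h1 : ∀ n : N, avg N ξ (n : G) = avg N ξ 1 := by
    intro n
    have := avg_left (ξ := ξ) N 1 n n.2
    rwa [mul_one] at this
  simp only [classInner_def, map_one, mul_one]
  simp_rw [h1]
  rw [Finset.sum_const, Finset.card_univ, nsmul_eq_mul, ← Nat.card_eq_fintype_card,
    ← mul_assoc, inv_mul_cancel₀ (card_N_ne_zero N), one_mul, avg_apply]
  simp

/-- The parity of `[ξ, 1]` for a power-fixed character and of its restriction to a normal subgroup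
of odd index agree. -/
theorem parity_pow (hodd : Odd N.index) {k : ℕ} (hk : k.Coprime (Nat.card G))
    (hk₂ : ∀ g : G, Odd (orderOf g) → g ^ k = g⁻¹) {ξ : G → ℂ} (hξ : IsCharacter G ξ)
    (hξk : ∀ g, ξ (g ^ k) = ξ g) {a b : ℕ}
    (ha : classInner ξ (fun _ => (1 : ℂ)) = a)
    (hb : classInner (fun n : N => ξ n) (fun _ => (1 : ℂ)) = b) : a % 2 = b % 2 := by
  refine parity N hodd (isCharacter_avg N hξ) (avg_real N hodd hk hk₂ hξ hξk) ?_ ?_
  · rw [classInner_avg_one, ha]
  · rw [classInner_restrict_avg_one, hb]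

theorem classInner_mul_conj_one {H : Type u} [Group H] [Fintype H] (α β : H → ℂ) :
    classInner (fun g => α g * conj (β g)) (fun _ => (1 : ℂ)) = classInner α β := by
  simp [classInner_def]

theorem isCharacter_conj {H : Type u} [Group H] [Fintype H] {β : H → ℂ} (hβ : IsCharacter H β) :
    IsCharacter H (fun g => conj (β g)) := by
  have : (fun g => conj (β g)) = fun g => β g⁻¹ := by
    funext g
    rw [char_inv_eq_conj hβ]
  rw [this]
  exact isCharacter_inv hβ

/-- At most one power-fixed irreducible character lies over a given irreducible character of a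
normal subgroup of odd index. -/
theorem eq_of_pow_fixed_of_lies_over (hodd : Odd N.index) {k : ℕ} (hk : k.Coprime (Nat.card G))
    (hk₂ : ∀ g : G, Odd (orderOf g) → g ^ k = g⁻¹) {φ : N → ℂ} (hφ : IsIrrCharacter N φ)
    {χ₁ χ₂ : G → ℂ} (h₁ : IsIrrCharacter G χ₁) (h₂ : IsIrrCharacter G χ₂)
    (r₁ : ∀ g, χ₁ (g ^ k) = χ₁ g) (r₂ : ∀ g, χ₂ (g ^ k) = χ₂ g)
    (c₁ : classInner (fun n : N => χ₁ n) φ ≠ 0) (c₂ : classInner (fun n : N => χ₂ n) φ ≠ 0) :
    χ₁ = χ₂ := by
  classical
  have hc₁ := clifford_restrict hN h₁ hφ c₁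
  have hc₂ := clifford_restrict hN h₂ hφ c₂
  set ϑ : N → ℂ := ∑ ψ ∈ orbitFinset hN φ, ψ with hϑ
  have hϑchar : IsCharacter N ϑ := by
    apply isCharacter_sum
    intro ψ hψ
    obtain ⟨g, rfl⟩ := (mem_orbitFinset hN φ ψ).mp hψ
    exact isCharacter_of_isIrrCharacter (isIrrCharacter_conjOn hN g hφ)
  have hφchar := isCharacter_of_isIrrCharacter hφ
  obtain ⟨e₁, he₁⟩ := exists_nat_classInner (isCharacter_restrict N (isCharacter_of_isIrrCharacter h₁)) hφchar
  obtain ⟨e₂, he₂⟩ := exists_nat_classInner (isCharacter_restrict N (isCharacter_of_isIrrCharacter h₂)) hφchar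
  obtain ⟨τ, hτ⟩ := exists_nat_classInner hϑchar hϑchar
  have hres : ∀ (e f : ℕ) (α β : N → ℂ), α = (e : ℂ) • ϑ → β = (f : ℂ) • ϑ →
      classInner α β = ((e * f * τ : ℕ) : ℂ) := by
    intro e f α β hα hβ
    rw [hα, hβ, classInner_smul_left, classInner_smul_right, hτ, Complex.conj_natCast]
    push_cast
    ring
  have hr₁ : (fun n : N => χ₁ n) = (e₁ : ℂ) • ϑ := by
    rw [← he₁]
    exact hc₁
  have hr₂ : (fun n : N => χ₂ n) = (e₂ : ℂ) • ϑ := by
    rw [← he₂]
    exact hc₂
  have hpar : ∀ (α β : G → ℂ) (e f : ℕ) (a : ℕ), IsCharacter G α → IsCharacter G β →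
      (∀ g, α (g ^ k) = α g) → (∀ g, β (g ^ k) = β g) →
      (fun n : N => α n) = (e : ℂ) • ϑ → (fun n : N => β n) = (f : ℂ) • ϑ → classInner α β = a →
      a % 2 = (e * f * τ) % 2 := by
    intro α β e f a hα hβ rα rβ hαN hβN hab
    refine parity_pow N hodd hk hk₂ (ξ := fun g => α g * conj (β g))
      (isCharacter_mul hα (isCharacter_conj hβ)) ?_ ?_ ?_
    · intro g
      simp only [rα, rβ]
    · rw [classInner_mul_conj_one α β, hab]
    · rw [classInner_mul_conj_one (fun n : N => α n) (fun n : N => β n)]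
      exact hres e f _ _ hαN hβN
  have hχ₁ := isCharacter_of_isIrrCharacter h₁
  have hχ₂ := isCharacter_of_isIrrCharacter h₂
  have p11 := hpar χ₁ χ₁ e₁ e₁ 1 hχ₁ hχ₁ r₁ r₁ hr₁ hr₁ (by rw [classInner_self_of_isIrr h₁]; simp)
  have p22 := hpar χ₂ χ₂ e₂ e₂ 1 hχ₂ hχ₂ r₂ r₂ hr₂ hr₂ (by rw [classInner_self_of_isIrr h₂]; simp)
  by_contra hne
  have p12 := hpar χ₁ χ₂ e₁ e₂ 0 hχ₁ hχ₂ r₁ r₂ hr₁ hr₂
    (by rw [classInner_eq_zero_of_isIrr_of_ne h₁ h₂ hne]; simp)
  have o1 : Odd (e₁ * e₁ * τ) := Nat.odd_iff.mpr (by omega)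
  have o2 : Odd (e₂ * e₂ * τ) := Nat.odd_iff.mpr (by omega)
  have o3 : Odd e₁ := (Nat.odd_mul.mp (Nat.odd_mul.mp o1).1).1
  have o4 : Odd e₂ := (Nat.odd_mul.mp (Nat.odd_mul.mp o2).1).1
  have o5 : Odd τ := (Nat.odd_mul.mp o1).2
  have o6 : Odd (e₁ * e₂ * τ) := (o3.mul o4).mul o5
  have := Nat.odd_iff.mp o6
  omega

end Parity

section Inv

variable {G : Type u} [Group G] [Fintype G] (N : Subgroup G) [hN : N.Normal] [Fintype N]

/-- An extension of a power-fixed invariant character can be twisted to a power-fixed one. -/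
theorem exists_fixed_ext_of_ext (hodd : Odd N.index) {k : ℕ} (hk : k.Coprime (Nat.card G))
    (hk₂ : ∀ g : G, Odd (orderOf g) → g ^ k = g⁻¹) {θ : N → ℂ} (hθ : IsIrrCharacter N θ)
    (hθk : ∀ n : N, θ (n ^ k) = θ n) {χ : G → ℂ} (hχ : IsIrrCharacter G χ)
    (hext : ∀ n : N, χ n = θ n) :
    ∃ χ₀ : G → ℂ, IsIrrCharacter G χ₀ ∧ (∀ n : N, χ₀ n = θ n) ∧ ∀ g, χ₀ (g ^ k) = χ₀ g := by
  classical
  have hres : (fun n : N => χ n) = θ := funext hext
  have hχ' : IsIrrCharacter G (fun g => χ (g ^ k)) := isIrrCharacter_pow hk hχ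
  have hcon : classInner (fun n : N => (fun g => χ (g ^ k)) (n : G)) (fun n : N => χ n) ≠ 0 := by
    have h1 : (fun n : N => (fun g => χ (g ^ k)) (n : G)) = θ := by
      funext n
      show χ ((n : G) ^ k) = θ n
      have := hext (n ^ k)
      rw [Subgroup.coe_pow] at this
      rw [this, hθk]
    rw [h1, hres, classInner_self_of_isIrr hθ]
    exact one_ne_zero
  obtain ⟨β, hβ, hβN, hβeq⟩ := Cfsg.Agent.Lib.Char.DegDvd.exists_mul_of_lies_over hN hχ
    (by rw [hres]; exact hθ) hχ' hcon
  have hβ1 : β 1 = 1 := by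
    have h1 := congrFun hβeq 1
    simp only [one_pow, Pi.mul_apply] at h1
    have h2 := Cfsg.Agent.Lib.Char.Complete.irr_one_ne_zero hχ
    exact (mul_left_eq_self₀.mp h1.symm).resolve_right h2
  have hβc := isCharacter_of_isIrrCharacter hβ
  set lam : G →* ℂˣ := Cfsg.Agent.Lib.CharDeep.LinearChar.toHom hβc hβ1 with hlam
  have hlamv : ∀ g, ((lam g : ℂˣ) : ℂ) = β g := fun g => rfl
  have hlamN : ∀ n ∈ N, lam n = 1 := by
    intro n hn
    apply Units.ext
    rw [hlamv, Units.val_one, hβN ⟨n, hn⟩, hβ1]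
  obtain ⟨r, hr⟩ := hodd
  set μ : G →* ℂˣ := lam ^ (r + 1) with hμ
  have hμv : ∀ g, μ g = lam g ^ (r + 1) := fun g => rfl
  have hμN : ∀ n ∈ N, μ n = 1 := by
    intro n hn
    rw [hμv, hlamN n hn, one_pow]
  have hsq : ∀ g, μ g * μ g = lam g := by
    intro g
    have h1 : lam g ^ (2 * r + 1) = 1 := by
      rw [← hr, ← map_pow]
      apply hlamN
      haveI : N.Normal := hN
      exact Subgroup.pow_index_mem N g
    rw [hμv, ← pow_add]
    have : r + 1 + (r + 1) = (2 * r + 1) + 1 := by ring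
    rw [this, pow_succ, h1, one_mul]
  have hinvk : ∀ g, μ (g ^ k) = (μ g)⁻¹ := by
    intro g
    obtain ⟨a, b, rfl, ha, hb⟩ := exists_odd_rep N ⟨r, hr⟩ g
    have h1 : μ (a * b) = μ b := by rw [map_mul, hμN a ha, one_mul]
    rw [map_pow, h1, ← map_pow, hk₂ b hb, map_inv]
  refine ⟨fun g => ((μ g : ℂˣ) : ℂ) * χ g, ?_, ?_, ?_⟩
  · exact Cfsg.Agent.Lib.CharZeros.Gallagher.isIrrCharacter_mul_linear
      (Cfsg.Agent.Lib.CharDeep.LinearChar.isCharacter_of_hom μ) (by simp) hχ
  · intro n
    show ((μ n : ℂˣ) : ℂ) * χ n = θ n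
    rw [hμN n n.2, hext]
    simp
  · intro g
    have h1 : χ (g ^ k) = β g * χ g := congrFun hβeq g
    show ((μ (g ^ k) : ℂˣ) : ℂ) * χ (g ^ k) = ((μ g : ℂˣ) : ℂ) * χ g
    rw [h1, hinvk, ← hlamv, ← hsq g]
    push_cast
    field_simp

theorem exists_normal_index_prime {Q : Type*} [Group Q] [Finite Q] {p : ℕ} (hp : p.Prime)
    (hQ : IsPGroup p Q) (hnt : Nat.card Q ≠ 1) :
    ∃ Q₀ : Subgroup Q, Q₀.Normal ∧ Q₀.index = p := by
  haveI : Fact p.Prime := ⟨hp⟩
  obtain ⟨n, hn⟩ := IsPGroup.iff_card.mp hQ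
  have hn0 : n ≠ 0 := by
    rintro rfl
    exact hnt (by simpa using hn)
  obtain ⟨m, rfl⟩ := Nat.exists_eq_succ_of_ne_zero hn0
  obtain ⟨K, hK⟩ := Sylow.exists_subgroup_card_pow_prime (G := Q) p
    (n := m) (by rw [hn]; exact pow_dvd_pow p (Nat.le_succ m))
  have hidx : K.index = p := by
    have h1 := K.card_mul_index
    rw [hK, hn, pow_succ] at h1
    exact Nat.eq_of_mul_eq_mul_left (pow_pos hp.pos m) h1
  refine ⟨K, ?_, hidx⟩
  apply Subgroup.normal_of_index_eq_minFac_card
  rw [hidx, hn]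
  haveI : Fact p.Prime := ⟨hp⟩
  exact (Nat.Prime.pow_minFac hp (Nat.succ_ne_zero m)).symm

/-- Power-fixed invariant characters have power-fixed extensions. -/
theorem exists_fixed_ext : ∀ (m : ℕ) {G : Type u} [Group G] [Fintype G] (N : Subgroup G)
    [hN : N.Normal] [Fintype N], N.index = m → Odd N.index → ∀ {k : ℕ},
    k.Coprime (Nat.card G) → (∀ g : G, Odd (orderOf g) → g ^ k = g⁻¹) →
    ∀ {θ : N → ℂ}, IsIrrCharacter N θ → (∀ n : N, θ (n ^ k) = θ n) →
    (∀ g : G, conjOn hN g θ = θ) →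
    ∃ χ : G → ℂ, IsIrrCharacter G χ ∧ (∀ n : N, χ n = θ n) ∧ ∀ g, χ (g ^ k) = χ g := by
  intro m
  induction' m using Nat.strong_induction_on with m IH
  intro G _ _ N hN _ hm hodd k hk hk₂ θ hθ hθk hinv
  classical
  -- transfer to a subgroup
  have hsub : ∀ (P : Subgroup G) (hNP : N ≤ P), P ≠ ⊤ →
      ∃ η : P → ℂ, IsIrrCharacter P η ∧ (∀ n : N, η ⟨n, hNP n.2⟩ = θ n) ∧ ∀ g : P, η (g ^ k) = η g := by
    intro P hNP hP
    letI : Fintype P := Fintype.ofFinite _
    letI : Fintype (N.subgroupOf P) := Fintype.ofFinite _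
    have hindex : (N.subgroupOf P).index * P.index = N.index := by
      have := Subgroup.relIndex_mul_index hNP
      simpa [Subgroup.relIndex] using this
    have hP1 : P.index ≠ 1 := fun h => hP (Subgroup.index_eq_one.mp h)
    have hP0 : 0 < (N.subgroupOf P).index := by
      rw [Nat.pos_iff_ne_zero]
      intro h
      rw [h, zero_mul] at hindex
      rw [← hindex] at hodd
      exact absurd hodd (by decide)
    have hlt : (N.subgroupOf P).index < m := by
      rw [← hm, ← hindex]
      have hP0' : P.index ≠ 0 := by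
        intro h
        rw [h, mul_zero] at hindex
        rw [← hindex] at hodd
        exact absurd hodd (by decide)
      have : 2 ≤ P.index := by omega
      nlinarith
    have hodd' : Odd (N.subgroupOf P).index := by
      rw [← hindex] at hodd
      exact (Nat.odd_mul.mp hodd).1
    let e : N.subgroupOf P ≃* N := Subgroup.subgroupOfEquivOfLe hNP
    have he : ∀ n : N.subgroupOf P, ((e n : N) : G) = ((n : P) : G) := fun n => rfl
    have hkP : k.Coprime (Nat.card P) :=
      Nat.Coprime.coprime_dvd_right (Subgroup.card_subgroup_dvd_card P) hk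
    have hk₂P : ∀ g : P, Odd (orderOf g) → g ^ k = g⁻¹ := by
      intro g hg
      apply Subtype.ext
      rw [Subgroup.coe_pow, Subgroup.coe_inv]
      apply hk₂
      rwa [Subgroup.orderOf_coe]
    obtain ⟨η, hη, hηres, hηk⟩ := IH _ hlt (N.subgroupOf P) rfl hodd' hkP hk₂P
      (θ := θ ∘ e) (isIrrCharacter_comp_mulEquiv e hθ)
      (by
        intro n
        simp only [Function.comp, map_pow]
        exact hθk _)
      (by
        intro g
        funext n
        simp only [conjOn_apply, Function.comp]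
        have := congrFun (hinv (g : G)) (e n)
        simp only [conjOn_apply] at this
        rw [← this]
        congr 1)
    refine ⟨η, hη, ?_, hηk⟩
    intro n
    have := hηres ⟨⟨n, hNP n.2⟩, n.2⟩
    rw [this]
    simp only [Function.comp]
    congr 1
  by_cases htop : N = ⊤
  · -- the trivial case
    subst htop
    let e : (⊤ : Subgroup G) ≃* G := Subgroup.topEquiv
    refine ⟨θ ∘ e.symm, isIrrCharacter_comp_mulEquiv e.symm hθ, ?_, ?_⟩
    · intro n
      simp only [Function.comp]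
      congr 1
    · intro g
      simp only [Function.comp, map_pow]
      exact hθk _
  haveI : Fintype (G ⧸ N) := Fintype.ofFinite _
  obtain ⟨χ, hχ, hχres⟩ : ∃ χ : G → ℂ, IsIrrCharacter G χ ∧ ∀ n : N, χ n = θ n := by
    apply Cfsg.Agent.Lib.Char.Extend.exists_irr_ext_of_local hN hθ hinv
    intro p hp
    haveI : Fact p.Prime := ⟨hp⟩
    let Q : Sylow p (G ⧸ N) := Classical.arbitrary _
    let P : Subgroup G := (Q : Subgroup (G ⧸ N)).comap (QuotientGroup.mk' N)
    have hNP : N ≤ P := by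
      intro n hn
      show (QuotientGroup.mk' N n) ∈ (Q : Subgroup (G ⧸ N))
      have h1 : QuotientGroup.mk' N n = 1 := (QuotientGroup.eq_one_iff n).mpr hn
      rw [h1]
      exact one_mem _
    have hidx : P.index = (Q : Subgroup (G ⧸ N)).index :=
      Subgroup.index_comap_of_surjective _ (QuotientGroup.mk'_surjective N)
    have hcop : Nat.Coprime P.index p := by
      rw [hidx]
      exact ((Nat.Prime.coprime_iff_not_dvd hp).mpr Q.not_dvd_index).symm
    by_cases hPtop : P = ⊤
    · -- `G / N` is a `p`-group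
      have hQtop : (Q : Subgroup (G ⧸ N)) = ⊤ := by
        rw [← Subgroup.index_eq_one, ← hidx, hPtop, Subgroup.index_top]
      have hpg : IsPGroup p (G ⧸ N) := by
        have h1 := Q.isPGroup'
        rw [hQtop] at h1
        intro x
        obtain ⟨j, hj⟩ := h1 ⟨x, Subgroup.mem_top x⟩
        refine ⟨j, ?_⟩
        simpa [Subtype.ext_iff] using hj
      have hnt : Nat.card (G ⧸ N) ≠ 1 := by
        intro h
        apply htop
        exact Subgroup.index_eq_one.mp h
      obtain ⟨Q₀, hQ₀, hQ₀i⟩ := exists_normal_index_prime hp hpg hnt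
      let M : Subgroup G := Q₀.comap (QuotientGroup.mk' N)
      haveI hM : M.Normal := hQ₀.comap _
      have hNM : N ≤ M := by
        intro n hn
        show (QuotientGroup.mk' N n) ∈ Q₀
        have h1 : QuotientGroup.mk' N n = 1 := (QuotientGroup.eq_one_iff n).mpr hn
        rw [h1]
        exact one_mem _
      have hMi : M.index = p := by
        rw [← hQ₀i]
        exact Subgroup.index_comap_of_surjective _ (QuotientGroup.mk'_surjective N)
      have hMtop : M ≠ ⊤ := by
        intro h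
        rw [h, Subgroup.index_top] at hMi
        exact hp.one_lt.ne hMi
      obtain ⟨η, hη, hηres, hηk⟩ := hsub M hNM hMtop
      letI : Fintype M := Fintype.ofFinite _
      have hηinv : ∀ g : G, conjOn hM g η = η := by
        intro g
        letI : Fintype (N.subgroupOf M) := Fintype.ofFinite _
        have hindex : (N.subgroupOf M).index * M.index = N.index := by
          have := Subgroup.relIndex_mul_index hNM
          simpa [Subgroup.relIndex] using this
        have hodd' : Odd (N.subgroupOf M).index := by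
          rw [← hindex] at hodd
          exact (Nat.odd_mul.mp hodd).1
        let e : N.subgroupOf M ≃* N := Subgroup.subgroupOfEquivOfLe hNM
        have hkM : k.Coprime (Nat.card M) :=
          Nat.Coprime.coprime_dvd_right (Subgroup.card_subgroup_dvd_card M) hk
        have hk₂M : ∀ g : M, Odd (orderOf g) → g ^ k = g⁻¹ := by
          intro g hg
          apply Subtype.ext
          rw [Subgroup.coe_pow, Subgroup.coe_inv]
          apply hk₂
          rwa [Subgroup.orderOf_coe]
        have hrest : (fun n : N.subgroupOf M => η n) = θ ∘ e := by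
          funext n
          have := hηres (e n)
          simp only [Function.comp]
          rw [← this]
          rfl
        have hrest' : (fun n : N.subgroupOf M => conjOn hM g η n) = θ ∘ e := by
          funext n
          have h1 := hηres ⟨g * ((n : M) : G) * g⁻¹, hN.conj_mem _ n.2 g⟩
          have h2 := congrFun (hinv g) (e n)
          simp only [conjOn_apply] at h2
          simp only [conjOn_apply, Function.comp]
          rw [← h2]
          exact h1
        have hirr' : IsIrrCharacter (N.subgroupOf M) (θ ∘ e) := isIrrCharacter_comp_mulEquiv e hθ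
        refine eq_of_pow_fixed_of_lies_over (N.subgroupOf M) hodd' hkM hk₂M hirr'
          (isIrrCharacter_conjOn hM g hη) hη ?_ hηk ?_ ?_
        · intro x
          simp only [conjOn_apply]
          have h1 := hηk ⟨g * x * g⁻¹, hM.conj_mem x x.2 g⟩
          rw [← h1]
          congr 1
          apply Subtype.ext
          simp [conj_pow]
        · rw [hrest', classInner_self_of_isIrr hirr']
          exact one_ne_zero
        · rw [hrest, classInner_self_of_isIrr hirr']
          exact one_ne_zero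
      have hcyc : IsCyclic (G ⧸ M) := by
        haveI : Fact (Nat.card (G ⧸ M)).Prime := ⟨by
          have : Nat.card (G ⧸ M) = M.index := rfl
          rw [this, hMi]
          exact hp⟩
        exact isCyclic_of_prime_card rfl
      obtain ⟨χ, hχ, hχres⟩ :=
        Cfsg.Agent.Lib.Char.Extend.exists_irr_ext_of_cyclic hM hη hηinv hcyc
      refine ⟨P, hNP, fun x => χ x, hcop,
        isCharacter_restrict P (isCharacter_of_isIrrCharacter hχ), ?_⟩
      intro n
      have h1 := hχres ⟨n, hNM n.2⟩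
      rw [hηres] at h1
      exact h1
    · obtain ⟨η, hη, hηres, -⟩ := hsub P hNP hPtop
      exact ⟨P, hNP, η, hcop, isCharacter_of_isIrrCharacter hη, hηres⟩
  exact exists_fixed_ext_of_ext N hodd hk hk₂ hθ hθk hχ hχres

end Inv

section Count

variable {G : Type u} [Group G] [Fintype G] (N : Subgroup G) [hN : N.Normal] [Fintype N]

/-- The existence of a power-fixed constituent over a power-fixed character. -/
theorem exists_fixed_over (hodd : Odd N.index) {k e : ℕ} (hk : k.Coprime (Nat.card G))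
    (hke : k ^ (2 ^ e) ≡ 1 [MOD Nat.card G]) {θ : N → ℂ} (hθ : IsIrrCharacter N θ)
    (hθk : ∀ n : N, θ (n ^ k) = θ n) :
    ∃ χ : IrrCharacter G, classInner (fun n : N => (χ : G → ℂ) n) θ ≠ 0 ∧
      ∀ g, (χ : G → ℂ) (g ^ k) = (χ : G → ℂ) g := by
  classical
  haveI := finite_irrCharacter (G := G)
  letI := Fintype.ofFinite (IrrCharacter G)
  have hΞ : IsCharacter G (indFun N θ) :=
    Cfsg.Agent.Lib.Char.IndRep.isCharacter_indFun N (isCharacter_of_isIrrCharacter hθ)
  set Ξ := indFun N θ with hΞdef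
  obtain ⟨m, hm⟩ := exists_nat_combination hΞ
  have hmi : ∀ i : IrrCharacter G, classInner Ξ (i : G → ℂ) = m i := by
    intro i
    rw [hm]
    exact classInner_of_nat_combination m i
  have hnorm : classInner Ξ Ξ = ((∑ i, m i ^ 2 : ℕ) : ℂ) := by
    rw [hm, classInner_self_of_nat_combination]
  -- the norm of the induced character is odd
  have hoddnorm : Odd (∑ i, m i ^ 2) := by
    have h1 := Cfsg.Agent.Lib.Char.Conj.card_inertia_eq hN hθ
    have h2 : Nat.card {g : G // conjOn hN g θ = θ} =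
        Nat.card (Cfsg.Agent.Lib.Char.CliffordCorr.inertia hN θ) := rfl
    rw [h2, hnorm, ← Nat.cast_mul, Nat.cast_inj] at h1
    have hle : N ≤ Cfsg.Agent.Lib.Char.CliffordCorr.inertia hN θ :=
      Cfsg.Agent.Lib.Char.CliffordCorr.le_inertia hN (isClassFunction_of_isIrrCharacter hθ)
    have h3 : Nat.card N * (N.relIndex (Cfsg.Agent.Lib.Char.CliffordCorr.inertia hN θ)) =
        Nat.card (Cfsg.Agent.Lib.Char.CliffordCorr.inertia hN θ) := by
      have := Subgroup.card_mul_index (N.subgroupOf (Cfsg.Agent.Lib.Char.CliffordCorr.inertia hN θ))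
      rw [Subgroup.relIndex]
      rw [← this]
      congr 1
      exact (Nat.card_congr (Subgroup.subgroupOfEquivOfLe hle).toEquiv).symm
    have h4 : (∑ i, m i ^ 2) = N.relIndex (Cfsg.Agent.Lib.Char.CliffordCorr.inertia hN θ) := by
      have hpos : 0 < Nat.card N := Nat.card_pos
      apply Nat.eq_of_mul_eq_mul_left hpos
      rw [h1, h3]
    rw [h4]
    have h5 := Subgroup.relIndex_mul_index hle
    rw [← h5] at hodd
    exact (Nat.odd_mul.mp hodd).1
  -- the power map
  have hcard_N : k.Coprime (Nat.card N) :=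
    Nat.Coprime.coprime_dvd_right (Subgroup.card_subgroup_dvd_card N) hk
  have hinvm : ∀ i : IrrCharacter G, m ⟨fun g => (i : G → ℂ) (g ^ k), isIrrCharacter_pow hk i.2⟩ = m i := by
    intro i
    have h1 := hmi ⟨fun g => (i : G → ℂ) (g ^ k), isIrrCharacter_pow hk i.2⟩
    have h2 := hmi i
    have h3 : classInner Ξ (fun g => (i : G → ℂ) (g ^ k)) = classInner Ξ (i : G → ℂ) := by
      rw [hΞdef, Cfsg.Agent.Lib.Char.Induced.classInner_indFun_left N θ _
          (isClassFunction_of_isIrrCharacter (isIrrCharacter_pow hk i.2)),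
        Cfsg.Agent.Lib.Char.Induced.classInner_indFun_left N θ _
          (isClassFunction_of_isIrrCharacter i.2), classInner_def, classInner_def]
      congr 1
      have hb := pow_bijective_of_coprime (G := N) hcard_N
      rw [← hb.sum_comp (fun n : N => θ n * conj ((i : G → ℂ) n))]
      refine Finset.sum_congr rfl fun n _ => ?_
      simp only [hθk, Subgroup.coe_pow]
    have h4 : (m ⟨fun g => (i : G → ℂ) (g ^ k), isIrrCharacter_pow hk i.2⟩ : ℂ) = m i := by
      rw [← h1, ← h2]
      exact h3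
    exact_mod_cast h4
  let S := {i : IrrCharacter G // Odd (m i)}
  have hcardS : Odd (Fintype.card S) := by
    have h1 : (∑ i, m i ^ 2) % 2 = (Fintype.card S) % 2 := by
      rw [Fintype.card_subtype, Finset.card_eq_sum_ones, Finset.sum_filter, Finset.sum_nat_mod]
      conv_rhs => rw [Finset.sum_nat_mod]
      congr 1
      refine Finset.sum_congr rfl fun i _ => ?_
      rcases Nat.even_or_odd (m i) with h | h
      · have h' : ¬ Odd (m i) := Nat.not_odd_iff_even.mpr h
        rw [if_neg h']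
        obtain ⟨r, hr⟩ := h
        rw [hr]
        have : (r + r) ^ 2 = 2 * (2 * r * r) := by ring
        rw [this]
        simp
      · rw [if_pos h]
        obtain ⟨r, hr⟩ := h
        rw [hr]
        have : (2 * r + 1) ^ 2 = 2 * (2 * r * r + 2 * r) + 1 := by ring
        rw [this]
        omega
    rw [Nat.odd_iff] at hoddnorm ⊢
    omega
  let f : Function.End S := fun i =>
    ⟨⟨fun g => (i.1 : G → ℂ) (g ^ k), isIrrCharacter_pow hk i.1.2⟩, by
      rw [hinvm]
      exact i.2⟩
  have hfpow : ∀ (j : ℕ) (i : S) (g : G), (((f ^ j) i).1 : G → ℂ) g = (i.1 : G → ℂ) (g ^ (k ^ j)) := by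
    intro j
    induction j with
    | zero =>
      intro i g
      rw [pow_zero, pow_zero, pow_one]
      rfl
    | succ j ih =>
      intro i g
      rw [pow_succ]
      show ((f ^ j) (f i)).1.1 g = _
      rw [ih]
      show (i.1 : G → ℂ) ((g ^ (k ^ j)) ^ k) = _
      rw [← pow_mul, pow_succ]
  have hf1 : f ^ 2 ^ e = 1 := by
    funext i
    apply Subtype.ext
    apply Subtype.ext
    funext g
    rw [hfpow]
    have : g ^ (k ^ 2 ^ e) = g := by
      have h1 : g ^ (k ^ 2 ^ e) = g ^ 1 := by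
        rw [pow_eq_pow_iff_modEq]
        exact hke.of_dvd (orderOf_dvd_natCard g)
      rw [h1, pow_one]
    rw [this]
    rfl
  haveI : Fact (Nat.Prime 2) := ⟨Nat.prime_two⟩
  have hmod := Equiv.Perm.card_fixedPoints_modEq (f := f) (p := 2) (n := e) hf1
  have hne : (Fintype.card (Function.fixedPoints f)) ≠ 0 := by
    intro h
    rw [h] at hmod
    have h1 := Nat.odd_iff.mp hcardS
    have h2 : Fintype.card S % 2 = 0 % 2 := hmod
    omega
  obtain ⟨⟨i, hi⟩⟩ := Fintype.card_pos_iff.mp (Nat.pos_of_ne_zero hne)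
  refine ⟨i.1, ?_, ?_⟩
  · have h1 : classInner Ξ (i.1 : G → ℂ) ≠ 0 := by
      rw [hmi]
      have : m i.1 ≠ 0 := by
        intro h
        have := i.2
        rw [h] at this
        exact absurd this (by decide)
      exact_mod_cast this
    rw [hΞdef, Cfsg.Agent.Lib.Char.Induced.classInner_indFun_left N θ _
      (isClassFunction_of_isIrrCharacter i.1.2)] at h1
    exact Cfsg.Agent.Lib.Char.Clifford.classInner_ne_zero_comm h1
  · intro g
    have h1 : f i = i := hi
    have h2 := congrArg (fun x : S => (x.1 : G → ℂ) g) h1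
    exact h2

/-- The main theorem. -/
theorem main (hodd : Odd N.index) {k e : ℕ} (hk : k.Coprime (Nat.card G))
    (hke : k ^ (2 ^ e) ≡ 1 [MOD Nat.card G]) (hk₂ : ∀ g : G, Odd (orderOf g) → g ^ k = g⁻¹)
    {θ : N → ℂ} (hθ : IsIrrCharacter N θ) (hθk : ∀ n : N, θ (n ^ k) = θ n) :
    ∃ χ : IrrCharacter G, (classInner (fun n : N => (χ : G → ℂ) n) θ ≠ 0 ∧
      (∀ g, (χ : G → ℂ) (g ^ k) = (χ : G → ℂ) g) ∧
      ((∀ g : G, ∀ n : N, θ ⟨g * n * g⁻¹, hN.conj_mem n n.2 g⟩ = θ n) →
        ∀ n : N, (χ : G → ℂ) n = θ n)) ∧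
      ∀ χ' : IrrCharacter G, classInner (fun n : N => (χ' : G → ℂ) n) θ ≠ 0 →
        (∀ g, (χ' : G → ℂ) (g ^ k) = (χ' : G → ℂ) g) → χ' = χ := by
  obtain ⟨χ, hχ, hχk⟩ := exists_fixed_over N hodd hk hke hθ hθk
  refine ⟨χ, ⟨hχ, hχk, ?_⟩, ?_⟩
  · intro hinv
    obtain ⟨χ₀, h₀, h₀res, h₀k⟩ := exists_fixed_ext _ N rfl hodd hk hk₂ hθ hθk
      (fun g => funext fun n => hinv g n)
    have h₀c : classInner (fun n : N => χ₀ n) θ ≠ 0 := by
      have : (fun n : N => χ₀ n) = θ := funext h₀res
      rw [this, classInner_self_of_isIrr hθ]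
      exact one_ne_zero
    have := eq_of_pow_fixed_of_lies_over N hodd hk hk₂ hθ χ.2 h₀ hχk h₀k hχ h₀c
    intro n
    rw [this, h₀res]
  · intro χ' hc hk'
    apply Subtype.ext
    exact eq_of_pow_fixed_of_lies_over N hodd hk hk₂ hθ χ'.2 χ.2 hk' hχk hc hχ

end Count

end Cfsg.Agent.Lib.CharDeg.OddIndexGal
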