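import Cfsg.Agent.Lib.CharDeg.OddIndexGal
import Cfsg.Agent.Lib.BlockT.Fong
import Cfsg.Agent.Lib.Blocks.Third
import Cfsg.Agent.Lib.Blk89.PrinBlock
import Mathlib

/-!
# Principal 2-blocks and Galois-fixed characters over a normal subgroup of odd index

`N ◁ G` of odd index, `k` coprime to `|G|`, of 2-power order modulo `|G|`, inverting the elements
of odd order.  For power-fixed `θ ∈ Irr N` and power-fixed `χ ∈ Irr G` over `θ`: `χ` lies in the
principal `2`-block of `G` iff `θ` lies in the principal `2`-block of `N`.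

The proof computes the sum `∑_{χ ∈ B₀(G)} [χ_N, θ]²` modulo two through the coefficients of the block
idempotent on `N`.
-/

set_option autoImplicit false
set_option linter.unusedSectionVars false

namespace Cfsg.Agent.Lib.CharDeg.OddIndexGalBlock

open Cfsg Module
open Cfsg.Agent.Lib.Char.Basic Cfsg.Agent.Lib.Char.Ortho Cfsg.Agent.Lib.Char.Complete
open Cfsg.Agent.Lib.Char.Conj Cfsg.Agent.Lib.Char.Clifford
open Cfsg.Agent.Lib.Blocks.Local Cfsg.Agent.Lib.Blocks.Central
open Cfsg.Agent.Lib.BlockT.Normal Cfsg.Agent.Lib.BlockT.Fong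
open Cfsg.Agent.Lib.Blk89.PrinBlock
open Cfsg.Agent.Lib.OddChar.GaloisConj
open Cfsg.Agent.Lib.CharDeg.OddIndexGal
open scoped ComplexConjugate

universe u

variable {G : Type u} [Group G] [Fintype G] (N : Subgroup G) [hN : N.Normal] [Fintype N]

theorem classInner_powI {k : ℕ} (hk : k.Coprime (Nat.card G)) (χ : IrrCharacter G) {θ : N → ℂ}
    (hθk : ∀ n : N, θ (n ^ k) = θ n) :
    classInner (fun n : N => ((powI hk χ : IrrCharacter G) : G → ℂ) n) θ =
      classInner (fun n : N => (χ : G → ℂ) n) θ := by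
  have hcard_N : k.Coprime (Nat.card N) :=
    Nat.Coprime.coprime_dvd_right (Subgroup.card_subgroup_dvd_card N) hk
  rw [classInner_def, classInner_def]
  congr 1
  have hb := pow_bijective_of_coprime (G := N) hcard_N
  rw [← hb.sum_comp (fun n : N => (χ : G → ℂ) n * conj (θ n))]
  refine Finset.sum_congr rfl fun n _ => ?_
  simp only [hθk, Subgroup.coe_pow, powI_apply]

/-- A parity count under the power map. -/
theorem sum_parity [Fintype (IrrCharacter G)] {k e : ℕ} (hk : k.Coprime (Nat.card G))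
    (hke : k ^ (2 ^ e) ≡ 1 [MOD Nat.card G]) (B : Set (IrrCharacter G)) [DecidablePred (· ∈ B)]
    (hB : ∀ χ ∈ B, powI hk χ ∈ B) (m : IrrCharacter G → ℕ) (hm : ∀ χ, m (powI hk χ) = m χ) :
    (∑ χ ∈ Finset.univ.filter (· ∈ B), m χ ^ 2) % 2 =
      (Finset.univ.filter (fun χ : IrrCharacter G => χ ∈ B ∧ Odd (m χ) ∧ powI hk χ = χ)).card % 2 := by
  classical
  let S := {χ : IrrCharacter G // χ ∈ B ∧ Odd (m χ)}
  let f : Function.End S := fun i => ⟨powI hk i.1, hB _ i.2.1, by rw [hm]; exact i.2.2⟩
  have hfpow : ∀ (j : ℕ) (i : S) (g : G), (((f ^ j) i).1 : G → ℂ) g = (i.1 : G → ℂ) (g ^ (k ^ j)) := by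
    intro j
    induction j with
    | zero =>
      intro i g
      rw [pow_zero, pow_zero, pow_one]
      rfl
    | succ j ih =>
      intro i g
      rw [pow_succ]
      show ((f ^ j) (f i)).1.1 g = _
      rw [ih]
      show (i.1 : G → ℂ) ((g ^ (k ^ j)) ^ k) = _
      rw [← pow_mul, pow_succ]
  have hf1 : f ^ 2 ^ e = 1 := by
    funext i
    apply Subtype.ext
    apply Subtype.ext
    funext g
    rw [hfpow]
    have : g ^ (k ^ 2 ^ e) = g := by
      have h1 : g ^ (k ^ 2 ^ e) = g ^ 1 := by
        rw [pow_eq_pow_iff_modEq]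
        exact hke.of_dvd (orderOf_dvd_natCard g)
      rw [h1, pow_one]
    rw [this]
    rfl
  haveI : Fact (Nat.Prime 2) := ⟨Nat.prime_two⟩
  have hmod := Equiv.Perm.card_fixedPoints_modEq (f := f) (p := 2) (n := e) hf1
  have hc1 : Fintype.card S = (Finset.univ.filter (fun χ : IrrCharacter G => χ ∈ B ∧ Odd (m χ))).card := by
    rw [Fintype.card_subtype]
  have hc2 : Fintype.card (Function.fixedPoints f) =
      (Finset.univ.filter (fun χ : IrrCharacter G => χ ∈ B ∧ Odd (m χ) ∧ powI hk χ = χ)).card := by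
    rw [← Fintype.card_subtype]
    apply Fintype.card_congr
    refine ⟨fun x => ⟨x.1.1, x.1.2.1, x.1.2.2, ?_⟩, fun y => ⟨⟨y.1, y.2.1, y.2.2.1⟩, ?_⟩, ?_, ?_⟩
    · have := x.2
      have h2 : f x.1 = x.1 := this
      exact congrArg Subtype.val h2
    · apply Subtype.ext
      exact y.2.2.2
    · intro x; rfl
    · intro y; rfl
  have hsum : (∑ χ ∈ Finset.univ.filter (· ∈ B), m χ ^ 2) % 2 =
      (Finset.univ.filter (fun χ : IrrCharacter G => χ ∈ B ∧ Odd (m χ))).card % 2 := by
    have h1 : (Finset.univ.filter (fun χ : IrrCharacter G => χ ∈ B ∧ Odd (m χ))) =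
        (Finset.univ.filter (· ∈ B)).filter (fun χ => Odd (m χ)) := by
      rw [Finset.filter_filter]
    rw [h1, Finset.card_filter, Finset.sum_nat_mod]
    conv_rhs => rw [Finset.sum_nat_mod]
    congr 1
    refine Finset.sum_congr rfl fun i _ => ?_
    rcases Nat.even_or_odd (m i) with h | h
    · have h' : ¬ Odd (m i) := Nat.not_odd_iff_even.mpr h
      rw [if_neg h']
      obtain ⟨r, hr⟩ := h
      rw [hr]
      have : (r + r) ^ 2 = 2 * (2 * r * r) := by ring
      rw [this]
      simp
    · rw [if_pos h]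
      obtain ⟨r, hr⟩ := h
      rw [hr]
      have : (2 * r + 1) ^ 2 = 2 * (2 * r * r + 2 * r) + 1 := by ring
      rw [this]
      omega
  rw [hsum, ← hc1, ← hc2]
  exact hmod

/-- The restriction formula for the idempotent coefficients on `N`. -/
theorem formula [Fintype (IrrCharacter G)] (B : Set (IrrCharacter G)) [DecidablePred (· ∈ B)]
    {θ : N → ℂ} (hθ : IsIrrCharacter N θ) (m : IrrCharacter G → ℕ)
    (hm : ∀ χ : IrrCharacter G, classInner (fun n : N => (χ : G → ℂ) n) θ = m χ) :
    (N.index : ℂ) * ((∑ n : N, blockCoeff B (n : G) * θ n) / θ 1) =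
      ((orbitFinset hN θ).card : ℂ) * ((∑ χ ∈ Finset.univ.filter (· ∈ B), m χ ^ 2 : ℕ) : ℂ) := by
  classical
  have hθ1 := irr_one_ne_zero hθ
  have hcardN : (Nat.card N : ℂ) ≠ 0 := by exact_mod_cast Nat.card_pos.ne'
  have hcardG : (Nat.card G : ℂ) ≠ 0 := by exact_mod_cast Nat.card_pos.ne'
  have hidx : (Nat.card G : ℂ) = (Nat.card N : ℂ) * (N.index : ℂ) := by
    rw [← Subgroup.card_mul_index N]
    push_cast
    rfl
  -- the value of the degree
  have hdeg : ∀ χ : IrrCharacter G, (χ : G → ℂ) 1 * (m χ : ℂ) =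
      (m χ : ℂ) ^ 2 * ((orbitFinset hN θ).card : ℂ) * θ 1 := by
    intro χ
    by_cases h0 : (m χ : ℂ) = 0
    · rw [h0]; simp
    · have hcon : classInner (fun n : N => (χ : G → ℂ) n) θ ≠ 0 := by
        rw [hm]; exact h0
      have h1 := clifford_restrict hN χ.2 hθ hcon
      have h2 := congrFun h1 1
      simp only [Subgroup.coe_one, Pi.smul_apply, Finset.sum_apply, smul_eq_mul] at h2
      have h3 : ∑ ψ ∈ orbitFinset hN θ, ψ 1 = ((orbitFinset hN θ).card : ℂ) * θ 1 := by
        rw [← nsmul_eq_mul, ← Finset.sum_const]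
        refine Finset.sum_congr rfl fun ψ hψ => ?_
        obtain ⟨g, rfl⟩ := (mem_orbitFinset hN θ ψ).mp hψ
        rw [conjOn_apply]
        congr 1
        apply Subtype.ext
        simp
      rw [h3, hm] at h2
      rw [h2]
      ring
  have hsum : ∑ n : N, blockCoeff B (n : G) * θ n =
      (N.index : ℂ)⁻¹ * ∑ χ : IrrCharacter G, if χ ∈ B then (χ : G → ℂ) 1 * (m χ : ℂ) else 0 := by
    have h1 : ∀ χ : IrrCharacter G, ∑ n : N, θ n * conj ((χ : G → ℂ) n) = (Nat.card N : ℂ) * (m χ : ℂ) := by
      intro χ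
      have h2 := classInner_conj (fun n : N => (χ : G → ℂ) n) θ
      rw [hm, Complex.conj_natCast, classInner_def] at h2
      rw [h2, ← mul_assoc, mul_inv_cancel₀ hcardN, one_mul]
    calc ∑ n : N, blockCoeff B (n : G) * θ n
        = ∑ n : N, (Nat.card G : ℂ)⁻¹ * ∑ χ : IrrCharacter G,
            if χ ∈ B then (χ : G → ℂ) 1 * (θ n * conj ((χ : G → ℂ) n)) else 0 := by
          refine Finset.sum_congr rfl fun n _ => ?_
          rw [blockCoeff_eq_sum, mul_assoc, Finset.sum_mul]
          congr 1
          refine Finset.sum_congr rfl fun χ _ => ?_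
          split_ifs
          · ring
          · simp
      _ = (Nat.card G : ℂ)⁻¹ * ∑ χ : IrrCharacter G,
            if χ ∈ B then (χ : G → ℂ) 1 * ((Nat.card N : ℂ) * (m χ : ℂ)) else 0 := by
          rw [← Finset.mul_sum, Finset.sum_comm]
          congr 1
          refine Finset.sum_congr rfl fun χ _ => ?_
          split_ifs
          · rw [← h1, Finset.mul_sum]
          · simp
      _ = _ := by
          have h3 : ∀ χ : IrrCharacter G, (if χ ∈ B then (χ : G → ℂ) 1 * ((Nat.card N : ℂ) * (m χ : ℂ)) else 0) =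
              (Nat.card N : ℂ) * (if χ ∈ B then (χ : G → ℂ) 1 * (m χ : ℂ) else 0) := by
            intro χ
            split_ifs
            · ring
            · simp
          simp_rw [h3]
          have hidx0' : (N.index : ℂ) ≠ 0 := by
            intro h
            rw [h, mul_zero] at hidx
            exact hcardG hidx
          rw [← Finset.mul_sum, hidx]
          field_simp
  rw [hsum]
  have hidx0 : (N.index : ℂ) ≠ 0 := by
    intro h
    rw [h, mul_zero] at hidx
    exact hcardG hidx
  have hfin : ∑ χ : IrrCharacter G, (if χ ∈ B then (χ : G → ℂ) 1 * (m χ : ℂ) else 0) =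
      ((orbitFinset hN θ).card : ℂ) * θ 1 * ((∑ χ ∈ Finset.univ.filter (· ∈ B), m χ ^ 2 : ℕ) : ℂ) := by
    push_cast
    rw [Finset.mul_sum, Finset.sum_filter]
    refine Finset.sum_congr rfl fun χ _ => ?_
    split_ifs
    · rw [hdeg]; ring
    · rfl
  rw [hfin]
  field_simp

/-- The main theorem. -/
theorem main {M : Ideal AlgInt} (hM : IsPModular 2 M) (hodd : Odd N.index) {k e : ℕ}
    (hk : k.Coprime (Nat.card G)) (hke : k ^ (2 ^ e) ≡ 1 [MOD Nat.card G])
    (hk₂ : ∀ g : G, Odd (orderOf g) → g ^ k = g⁻¹) (θ : IrrCharacter N)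
    (hθk : ∀ n : N, (θ : N → ℂ) (n ^ k) = (θ : N → ℂ) n) (χ : IrrCharacter G)
    (hχk : ∀ g : G, (χ : G → ℂ) (g ^ k) = (χ : G → ℂ) g)
    (hover : classInner (fun n : N => (χ : G → ℂ) n) (θ : N → ℂ) ≠ 0) :
    χ ∈ principalBlock M G ↔ θ ∈ principalBlock M N := by
  classical
  haveI hMp : M.IsPrime := isPrime_of_pModular hM
  haveI := finite_irrCharacter (G := G)
  letI := Fintype.ofFinite (IrrCharacter G)
  let oneG : IrrCharacter G := ⟨fun _ => 1, Cfsg.Agent.Lib.Char.Burnside.isIrrCharacter_one⟩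
  let oneN : IrrCharacter N := ⟨fun _ => 1, Cfsg.Agent.Lib.Char.Burnside.isIrrCharacter_one⟩
  have hB : IsPBlock M (principalBlock M G) := ⟨oneG, rfl⟩
  have hb : IsPBlock M (principalBlock M N) := ⟨oneN, rfl⟩
  have hoG : oneG ∈ principalBlock M G := mem_blockOf_self oneG
  have hoN : oneN ∈ principalBlock M N := mem_blockOf_self oneN
  have hone : classInner (fun n : N => (oneG : G → ℂ) n) (oneN : N → ℂ) = 1 := by
    show classInner (fun _ : N => (1 : ℂ)) (fun _ : N => (1 : ℂ)) = 1
    rw [classInner]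
    simp only [map_one, mul_one, Finset.sum_const, Finset.card_univ, nsmul_eq_mul]
    rw [← Nat.card_eq_fintype_card]
    have hc : (Nat.card N : ℂ) ≠ 0 := by exact_mod_cast Nat.card_pos.ne'
    field_simp
  constructor
  · intro hχB
    have hinv : IsInv hN (principalBlock M N) := by
      intro t θ hθ
      have h1 : SameBlock M (fun _ : N => (1 : ℂ)) (θ : N → ℂ) := hθ
      have h2 := sameBlock_conjOn hN M t h1
      exact h2
    exact mem_of_constituent hN hinv hb (χ := oneG) ⟨oneN, hoN, by rw [hone]; exact one_ne_zero⟩ hχB hover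
  · intro hθb
    set B := principalBlock M G with hBdef
    have hBσ : ∀ x ∈ B, powI hk x ∈ B := fun x hx => powI_mem_principal hk hx
    -- the multiplicities
    have hmex : ∀ (φ : IrrCharacter N), ∃ m : IrrCharacter G → ℕ, ∀ x : IrrCharacter G,
        classInner (fun n : N => (x : G → ℂ) n) (φ : N → ℂ) = m x := by
      intro φ
      have : ∀ x : IrrCharacter G, ∃ a : ℕ, classInner (fun n : N => (x : G → ℂ) n) (φ : N → ℂ) = a :=
        fun x => exists_nat_classInner (isCharacter_restrict N (isCharacter_of_isIrrCharacter x.2))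
          (isCharacter_of_isIrrCharacter φ.2)
      choose m hm using this
      exact ⟨m, hm⟩
    obtain ⟨m₁, hm₁⟩ := hmex oneN
    obtain ⟨mθ, hmθ⟩ := hmex θ
    have hm₁σ : ∀ x, m₁ (powI hk x) = m₁ x := by
      intro x
      have h1 := classInner_powI N hk x (θ := (oneN : N → ℂ)) (fun _ => rfl)
      rw [hm₁, hm₁] at h1
      exact_mod_cast h1
    have hmθσ : ∀ x, mθ (powI hk x) = mθ x := by
      intro x
      have h1 := classInner_powI N hk x (θ := (θ : N → ℂ)) hθk
      rw [hmθ, hmθ] at h1
      exact_mod_cast h1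
    -- the sum for the trivial character is odd
    have hS₁ : Odd (∑ x ∈ Finset.univ.filter (· ∈ B), m₁ x ^ 2) := by
      have h1 := sum_parity hk hke B hBσ m₁ hm₁σ
      have h2 : Finset.univ.filter (fun x : IrrCharacter G => x ∈ B ∧ Odd (m₁ x) ∧ powI hk x = x) = {oneG} := by
        ext x
        simp only [Finset.mem_filter, Finset.mem_univ, true_and, Finset.mem_singleton]
        constructor
        · rintro ⟨-, hx, hxσ⟩
          apply Subtype.ext
          refine eq_of_pow_fixed_of_lies_over N hodd hk hk₂ oneN.2 x.2 oneG.2 ?_ (fun _ => rfl) ?_ ?_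
          · intro g
            exact congrFun (congrArg Subtype.val hxσ) g
          · rw [hm₁]
            have : m₁ x ≠ 0 := by
              intro h
              rw [h] at hx
              exact absurd hx (by decide)
            exact_mod_cast this
          · rw [hone]; exact one_ne_zero
        · rintro rfl
          refine ⟨hoG, ?_, ?_⟩
          · have h3 := hm₁ oneG
            rw [hone] at h3
            have h4 : m₁ oneG = 1 := by exact_mod_cast h3.symm
            rw [h4]
            exact odd_one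
          · apply Subtype.ext
            funext g
            rfl
      rw [h2, Finset.card_singleton] at h1
      exact Nat.odd_iff.mpr h1
    -- the formula
    have hf₁ := formula N B oneN.2 m₁ hm₁
    have hfθ := formula N B θ.2 mθ hmθ
    have hr₁ : (orbitFinset hN (oneN : N → ℂ)).card = 1 := by
      have : orbitFinset hN (oneN : N → ℂ) = {(oneN : N → ℂ)} := by
        ext ψ
        rw [mem_orbitFinset, Finset.mem_singleton]
        constructor
        · rintro ⟨g, rfl⟩
          rfl
        · rintro rfl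
          exact ⟨1, rfl⟩
      rw [this, Finset.card_singleton]
    rw [hr₁] at hf₁
    have hrodd : Odd (orbitFinset hN (θ : N → ℂ)).card := by
      rw [Cfsg.Agent.Lib.Char.CliffordCorr.card_orbit_eq_index hN (θ : N → ℂ)]
      have hle : N ≤ Cfsg.Agent.Lib.Char.CliffordCorr.inertia hN (θ : N → ℂ) :=
        Cfsg.Agent.Lib.Char.CliffordCorr.le_inertia hN (isClassFunction_of_isIrrCharacter θ.2)
      have h5 := Subgroup.relIndex_mul_index hle
      rw [← h5] at hodd
      exact (Nat.odd_mul.mp hodd).2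
    -- comparison
    have hsb : SameBlock M (fun _ : N => (1 : ℂ)) (θ : N → ℂ) := hθb
    have hcmp := sum_mul_sub_mem_of_sameBlock M (G := N) (fun _ _ => rfl)
      (isClassFunction_of_isIrrCharacter θ.2) hsb (fun n : N => blockCoeff B (n : G))
      (fun n t => blockCoeff_conj_invariant B (n : G) t)
      (fun n => memLocalRing_blockCoeff hB _)
    have hcmp2 := memLocalIdeal_mul_left (memLocalRing_natCast (M := M) N.index) hcmp
    rw [mul_sub] at hcmp2
    have hf₁' : (N.index : ℂ) * ((∑ n : N, blockCoeff B (n : G) * (fun _ : N => (1 : ℂ)) n) / (fun _ : N => (1 : ℂ)) 1) =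
        ((∑ x ∈ Finset.univ.filter (· ∈ B), m₁ x ^ 2 : ℕ) : ℂ) := by
      have := hf₁
      simp only [Nat.cast_one, one_mul] at this
      exact this
    rw [hf₁', hfθ] at hcmp2
    have hSθ : Odd (∑ x ∈ Finset.univ.filter (· ∈ B), mθ x ^ 2) := by
      by_contra hev
      rw [Nat.not_odd_iff_even] at hev
      have h3 : ((((∑ x ∈ Finset.univ.filter (· ∈ B), m₁ x ^ 2 : ℕ) : ℤ) -
          (((orbitFinset hN (θ : N → ℂ)).card * ∑ x ∈ Finset.univ.filter (· ∈ B), mθ x ^ 2 : ℕ) : ℤ) : ℤ) : ℂ) =
          ((∑ x ∈ Finset.univ.filter (· ∈ B), m₁ x ^ 2 : ℕ) : ℂ) -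
          ((orbitFinset hN (θ : N → ℂ)).card : ℂ) * ((∑ x ∈ Finset.univ.filter (· ∈ B), mθ x ^ 2 : ℕ) : ℂ) := by
        push_cast
        ring
      rw [← h3, intCast_memLocalIdeal_iff hM] at hcmp2
      have h4 : Even ((orbitFinset hN (θ : N → ℂ)).card * ∑ x ∈ Finset.univ.filter (· ∈ B), mθ x ^ 2) :=
        hev.mul_left _
      rw [Nat.even_iff] at h4
      rw [Nat.odd_iff] at hS₁
      omega
    have h1 := sum_parity hk hke B hBσ mθ hmθσ
    have h2 : (Finset.univ.filter (fun x : IrrCharacter G => x ∈ B ∧ Odd (mθ x) ∧ powI hk x = x)).Nonempty := by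
      rw [Finset.nonempty_iff_ne_empty]
      intro h
      rw [h, Finset.card_empty] at h1
      rw [Nat.odd_iff] at hSθ
      omega
    obtain ⟨x, hx⟩ := h2
    simp only [Finset.mem_filter, Finset.mem_univ, true_and] at hx
    obtain ⟨hxB, hxo, hxσ⟩ := hx
    have : χ = x := by
      apply Subtype.ext
      refine eq_of_pow_fixed_of_lies_over N hodd hk hk₂ θ.2 χ.2 x.2 hχk ?_ hover ?_
      · intro g
        exact congrFun (congrArg Subtype.val hxσ) g
      · rw [hmθ]
        have : mθ x ≠ 0 := by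
          intro h
          rw [h] at hxo
          exact absurd hxo (by decide)
        exact_mod_cast this
    rw [this]
    exact hxB

end Cfsg.Agent.Lib.CharDeg.OddIndexGalBlock
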