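import Cfsg.Agent.S4441
import Cfsg.Agent.S4456
import Cfsg.Agent.S4464
import Cfsg.Agent.S4465
import Cfsg.Agent.Lib.BlockH.Basic
import Cfsg.Agent.Lib.Char.Burnside
import Cfsg.Agent.Lib.CharDeep.LinearChar
import Cfsg.Agent.Lib.Char.Linear
import Cfsg.Agent.Lib.OddChar.Inertia
import Cfsg.Agent.Lib.BlockT.NormalP
import Mathlib

/-!
# Groups all of whose nonlinear irreducible characters have prime degree are solvable
-/

set_option autoImplicit false
set_option linter.unusedSectionVars false

namespace Cfsg.Agent.Lib.CharDeg.PrimeDeg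

open Cfsg Module
open Cfsg.Agent.Lib.Char.Basic Cfsg.Agent.Lib.Char.Ortho Cfsg.Agent.Lib.Char.Complete
open Cfsg.Agent.Lib.Char.Degree Cfsg.Agent.Lib.Char.Clifford Cfsg.Agent.Lib.Char.Conj
open scoped ComplexConjugate

universe u

section Simple

variable {S : Type u} [Group S] [Finite S] [hsim : IsSimpleGroup S]

/-- The trivial irreducible character. -/
noncomputable def one' (S : Type u) [Group S] [Finite S] : IrrCharacter S :=
  letI := Fintype.ofFinite S
  ⟨fun _ => 1, Cfsg.Agent.Lib.Char.Burnside.isIrrCharacter_one⟩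

omit hsim in
theorem one'_apply (g : S) : ((one' S : IrrCharacter S) : S → ℂ) g = 1 := rfl

theorem deg_ne_one (hna : ∃ a b : S, a * b ≠ b * a) (χ : IrrCharacter S) (hχ : χ ≠ one' S) :
    charDegree (χ : S → ℂ) ≠ 1 := by
  intro h1
  have hc := isCharacter_of_isIrrCharacter χ.2
  have h2 : (χ : S → ℂ) 1 = 1 := by
    rw [← charDegree_natCast hc, h1]
    simp
  let lam := Cfsg.Agent.Lib.CharDeep.LinearChar.toHom hc h2
  have hv : ∀ g, ((lam g : ℂˣ) : ℂ) = (χ : S → ℂ) g := fun g => rfl
  rcases IsSimpleGroup.eq_bot_or_eq_top_of_normal lam.ker inferInstance with h | h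
  · obtain ⟨a, b, hab⟩ := hna
    apply hab
    have hinj := (MonoidHom.ker_eq_bot_iff lam).mp h
    apply hinj
    rw [map_mul, map_mul, mul_comm]
  · apply hχ
    apply Subtype.ext
    funext g
    have : g ∈ lam.ker := by rw [h]; trivial
    have h3 : lam g = 1 := this
    rw [← hv, h3]
    rfl

theorem faithful (χ : IrrCharacter S) (hχ : χ ≠ one' S) : ∀ g : S, (χ : S → ℂ) g = (χ : S → ℂ) 1 → g = 1 := by
  classical
  have hc := isCharacter_of_isIrrCharacter χ.2
  have hn : (charKer hc).Normal := charKer_normal hc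
  rcases IsSimpleGroup.eq_bot_or_eq_top_of_normal (charKer hc) hn with h | h
  · intro g hg
    have : g ∈ charKer hc := (mem_charKer hc g).mpr hg
    rw [h] at this
    exact this
  · exfalso
    apply hχ
    have hall : ∀ g, (χ : S → ℂ) g = (χ : S → ℂ) 1 := by
      intro g
      have : g ∈ charKer hc := by rw [h]; trivial
      exact (mem_charKer hc g).mp this
    by_contra hne
    letI := Fintype.ofFinite S
    have h0 := classInner_eq_zero_of_isIrr_of_ne χ.2 (one' S).2 (fun h => hne (Subtype.ext h))
    have h1 : (χ : S → ℂ) = fun _ => (χ : S → ℂ) 1 := funext hall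
    have h2 : classInner (χ : S → ℂ) ((one' S : IrrCharacter S) : S → ℂ) = (χ : S → ℂ) 1 := by
      rw [h1]
      simp only [classInner_def, one'_apply, map_one, mul_one, Finset.sum_const, Finset.card_univ,
        nsmul_eq_mul]
      rw [← Nat.card_eq_fintype_card]
      field_simp
    rw [h2] at h0
    exact irr_one_ne_zero χ.2 h0

theorem center_eq_bot (hna : ∃ a b : S, a * b ≠ b * a) : Subgroup.center S = ⊥ := by
  rcases IsSimpleGroup.eq_bot_or_eq_top_of_normal (Subgroup.center S) inferInstance with h | h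
  · exact h
  · exfalso
    obtain ⟨a, b, hab⟩ := hna
    apply hab
    have : b ∈ Subgroup.center S := by rw [h]; trivial
    exact (Subgroup.mem_center_iff.mp this a)

/-- Vanishing on elements of odd-index type. -/
theorem apply_eq_zero_of_coprime (hna : ∃ a b : S, a * b ≠ b * a) (χ : IrrCharacter S)
    (hχ : χ ≠ one' S) (x : S) (hx : x ≠ 1)
    (hcop : Nat.Coprime (charDegree (χ : S → ℂ)) (Subgroup.centralizer ({x} : Set S)).index) :
    (χ : S → ℂ) x = 0 := by
  classical
  have hfaith := faithful χ hχ
  obtain ⟨n, ρ, hρ, hchar⟩ := χ.2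
  have := hρ
  have hdeg : charDegree (χ : S → ℂ) = finrank ℂ (Fin n → ℂ) := by
    rw [← hchar]
    exact charDegree_character ρ
  rw [hdeg] at hcop
  rcases Cfsg.Agent.Lib.Char.Galois.character_eq_zero_or_norm_eq_of_coprime ρ x hcop with h0 | h1
  · rw [← hchar]; exact h0
  · exfalso
    obtain ⟨ω, hω⟩ := (Cfsg.Agent.Lib.Char.Eigen.norm_character_eq_iff_scalar ρ x).mp h1
    have hinj : Function.Injective ρ := by
      rw [injective_iff_map_eq_one]
      intro g hg
      apply hfaith
      rw [← hchar]
      simp only [Representation.character, hg, map_one]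
    have hcen : x ∈ Subgroup.center S := by
      rw [Subgroup.mem_center_iff]
      intro y
      apply hinj
      rw [map_mul, map_mul, hω]
      ext v i
      simp
    rw [center_eq_bot hna] at hcen
    exact hx hcen

/-- A group whose order involves at most the primes 2 and 3 is solvable. -/
theorem solvable_of_primes_le_three {X : Type*} [Group X] [Finite X]
    (h : ∀ q : ℕ, q.Prime → q ∣ Nat.card X → q ≤ 3) : Group.IsSolvable X := by
  set n := Nat.card X with hn
  have hn0 : n ≠ 0 := Nat.card_pos.ne'
  have hm : ∃ a b : ℕ, n = 2 ^ a * 3 ^ b := by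
    set m1 := n / 2 ^ n.factorization 2 with hm1
    have h1 : 2 ^ n.factorization 2 * m1 = n := Nat.ordProj_mul_ordCompl_eq_self n 2
    have hm10 : m1 ≠ 0 := by
      intro h0
      rw [h0, mul_zero] at h1
      exact hn0 h1.symm
    set m2 := m1 / 3 ^ m1.factorization 3 with hm2
    have h2 : 3 ^ m1.factorization 3 * m2 = m1 := Nat.ordProj_mul_ordCompl_eq_self m1 3
    have hm20 : m2 ≠ 0 := by
      intro h0
      rw [h0, mul_zero] at h2
      exact hm10 h2.symm
    have hnot2 : ¬ 2 ∣ m1 := Nat.not_dvd_ordCompl Nat.prime_two hn0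
    have hnot3 : ¬ 3 ∣ m2 := Nat.not_dvd_ordCompl Nat.prime_three hm10
    have hone : m2 = 1 := by
      by_contra hne
      have hq := Nat.minFac_prime hne
      have hd := Nat.minFac_dvd m2
      have hdn : m2.minFac ∣ n := by
        rw [← h1, ← h2]
        exact Dvd.dvd.mul_left (Dvd.dvd.mul_left hd _) _
      have hle := h _ hq hdn
      have hge := hq.two_le
      have hcases : m2.minFac = 2 ∨ m2.minFac = 3 := by omega
      rcases hcases with h3 | h3
      · rw [h3] at hd
        apply hnot2
        rw [← h2]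
        exact Dvd.dvd.mul_left hd _
      · rw [h3] at hd
        exact hnot3 hd
    refine ⟨n.factorization 2, m1.factorization 3, ?_⟩
    have h2' : m1 = 3 ^ m1.factorization 3 := by
      rw [hone, mul_one] at h2
      exact h2.symm
    calc n = 2 ^ n.factorization 2 * m1 := h1.symm
      _ = _ := congrArg _ h2'
  obtain ⟨a, b, hab⟩ := hm
  exact Cfsg.Agent.Lib.Char.Burnside.isSolvable_of_card_eq 2 3 a b Nat.prime_two Nat.prime_three hab

/-- No nonabelian simple group has only prime nontrivial irreducible degrees. -/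
theorem simple_false (hna : ∃ a b : S, a * b ≠ b * a)
    (h : ∀ χ : IrrCharacter S, charDegree (χ : S → ℂ) ≠ 1 → (charDegree (χ : S → ℂ)).Prime) : False := by
  classical
  letI := Fintype.ofFinite S
  have hnsolv : ¬ Group.IsSolvable S := by
    intro hs
    obtain ⟨a, b, hab⟩ := hna
    exact hab ((IsSimpleGroup.comm_iff_isSolvable).mpr hs a b)
  -- the largest prime
  have hcard1 : Nat.card S ≠ 1 := by
    intro h1
    obtain ⟨a, b, hab⟩ := hna
    have : Subsingleton S := (Nat.card_eq_one_iff_unique.mp h1).1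
    exact hab (Subsingleton.elim _ _)
  have hnonempty : (Nat.card S).primeFactors.Nonempty := by
    rw [Nat.nonempty_primeFactors]
    have : Nat.card S ≠ 0 := Nat.card_pos.ne'
    omega
  set p := (Nat.card S).primeFactors.max' hnonempty with hpdef
  have hpmem : p ∈ (Nat.card S).primeFactors := Finset.max'_mem _ _
  have hp : p.Prime := Nat.prime_of_mem_primeFactors hpmem
  have hpd : p ∣ Nat.card S := Nat.dvd_of_mem_primeFactors hpmem
  have hple : ∀ q : ℕ, q.Prime → q ∣ Nat.card S → q ≤ p := by
    intro q hq hqd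
    apply Finset.le_max'
    exact Nat.mem_primeFactors.mpr ⟨hq, hqd, Nat.card_pos.ne'⟩
  haveI hfp : Fact p.Prime := ⟨hp⟩
  have hp5 : 5 ≤ p := by
    by_contra hlt
    have hle3 : ∀ q : ℕ, q.Prime → q ∣ Nat.card S → q ≤ 3 := by
      intro q hq hqd
      have := hple q hq hqd
      have hp4 : p ≠ 4 := by
        intro h4
        rw [h4] at hp
        exact absurd hp (by norm_num)
      omega
    exact hnsolv (solvable_of_primes_le_three hle3)
  -- degrees are at most `p`
  have hdeg : ∀ χ : IrrCharacter S, charDegree (χ : S → ℂ) ≠ 1 →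
      (charDegree (χ : S → ℂ)).Prime ∧ charDegree (χ : S → ℂ) ∣ Nat.card S ∧ charDegree (χ : S → ℂ) ≤ p := by
    intro χ hχ
    have h1 := h χ hχ
    have h2 := charDegree_dvd_card χ.2
    exact ⟨h1, h2, hple _ h1 h2⟩
  -- a character of degree `p`
  obtain ⟨χp, hχp⟩ : ∃ χ : IrrCharacter S, charDegree (χ : S → ℂ) = p := by
    by_contra hno
    push Not at hno
    have hlt : ∀ χ : IrrCharacter S, charDegree (χ : S → ℂ) < p := by
      intro χ
      by_cases h1 : charDegree (χ : S → ℂ) = 1
      · rw [h1]; omega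
      · exact lt_of_le_of_ne (hdeg χ h1).2.2 (hno χ)
    obtain ⟨P, hPn, hPc, hPp, hPi⟩ := Cfsg.Agent.S4464.result p hp hlt
    rcases IsSimpleGroup.eq_bot_or_eq_top_of_normal P hPn with h0 | h0
    · apply hPi
      rw [h0, Subgroup.index_bot]
      exact hpd
    · obtain ⟨a, b, hab⟩ := hna
      exact hab (hPc a (by rw [h0]; trivial) b (by rw [h0]; trivial))
  -- a character of a different nontrivial degree
  obtain ⟨φ, hφ1, hφp⟩ : ∃ φ : IrrCharacter S, charDegree (φ : S → ℂ) ≠ 1 ∧ charDegree (φ : S → ℂ) ≠ p := by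
    by_contra hno
    push Not at hno
    have hall : ∀ χ : IrrCharacter S, charDegree (χ : S → ℂ) ≠ 1 → p ∣ charDegree (χ : S → ℂ) := by
      intro χ hχ
      rw [hno χ hχ]
    obtain ⟨N, hNn, hNc, k, hk⟩ := Cfsg.Agent.S4456.result p hp hall
    rcases IsSimpleGroup.eq_bot_or_eq_top_of_normal N hNn with h0 | h0
    · rw [h0, Subgroup.index_bot] at hk
      exact hnsolv (Cfsg.Agent.Lib.Char.Burnside.isSolvable_of_card_eq p p k 0 hp hp (by simpa using hk))
    · rw [h0] at hNc
      have h2 : Nat.card (⊤ : Subgroup S) = Nat.card S := Subgroup.card_top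
      rw [h2] at hNc
      have := Nat.Coprime.eq_one_of_dvd hNc.symm hpd
      exact hp.one_lt.ne' this
  have hφne : φ ≠ one' S := by
    rintro rfl
    apply hφ1
    apply charDegree_eq_of_eq_natCast
    simp [one'_apply]
  obtain ⟨hφprime, -, hφle⟩ := hdeg φ hφ1
  have hφlt : charDegree (φ : S → ℂ) + 1 < p := by
    have h1 : charDegree (φ : S → ℂ) < p := lt_of_le_of_ne hφle hφp
    have h2 : charDegree (φ : S → ℂ) + 1 ≠ p := by
      intro h3
      rcases hφprime.eq_two_or_odd with h4 | h4
      · omega
      · have := hp.eq_two_or_odd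
        omega
    omega
  -- the Sylow subgroup is abelian
  obtain ⟨A, hAc, -, hAi⟩ := Cfsg.Agent.S4465.result (φ : S → ℂ) (isCharacter_of_isIrrCharacter φ.2)
    (faithful φ hφne) _ rfl
  have hpA : ¬ p ∣ A.index := by
    intro hd
    have := hAi p hp hd
    omega
  let P : Sylow p S := Classical.arbitrary _
  have hPg : IsPGroup p (P : Subgroup S) := P.isPGroup'
  have hPc : ∀ x ∈ (P : Subgroup S), ∀ y ∈ (P : Subgroup S), x * y = y * x := by
    have hfix := hPg.nonempty_fixed_point_of_prime_not_dvd_card (S ⧸ A)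
      (by rwa [show Nat.card (S ⧸ A) = A.index from rfl])
    obtain ⟨q, hq⟩ := hfix
    obtain ⟨g, rfl⟩ := QuotientGroup.mk_surjective q
    have hmem : ∀ x ∈ (P : Subgroup S), g⁻¹ * x * g ∈ A := by
      intro x hx
      have h1 := hq ⟨x, hx⟩
      have h2 : ((x * g : S) : S ⧸ A) = (g : S ⧸ A) := h1
      have h3 := QuotientGroup.eq.mp h2.symm
      have h4 : g⁻¹ * (x * g) = g⁻¹ * x * g := by group
      rwa [h4] at h3
    intro x hx y hy
    have h1 := hAc _ (hmem x hx) _ (hmem y hy)
    have h2 : g⁻¹ * (x * y) * g = g⁻¹ * (y * x) * g := by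
      calc g⁻¹ * (x * y) * g = g⁻¹ * x * g * (g⁻¹ * y * g) := by group
        _ = g⁻¹ * y * g * (g⁻¹ * x * g) := h1
        _ = g⁻¹ * (y * x) * g := by group
    have h3 := mul_right_cancel h2
    exact mul_left_cancel h3
  have hχpne : χp ≠ one' S := by
    rintro rfl
    have h1 : charDegree ((one' S : IrrCharacter S) : S → ℂ) = 1 := by
      apply charDegree_eq_of_eq_natCast
      simp [one'_apply]
    omega
  -- `P` has order `p`
  have hvan : ∀ x ∈ (P : Subgroup S), x ≠ 1 → (χp : S → ℂ) x = 0 := by
    intro x hx hx1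
    apply apply_eq_zero_of_coprime hna χp hχpne x hx1
    rw [hχp, Nat.Prime.coprime_iff_not_dvd hp]
    have hle : (P : Subgroup S) ≤ Subgroup.centralizer ({x} : Set S) := by
      intro y hy
      rw [Subgroup.mem_centralizer_iff]
      intro z hz
      rw [Set.mem_singleton_iff] at hz
      rw [hz]
      exact hPc x hx y hy
    intro hd
    exact P.not_dvd_index (hd.trans (Subgroup.index_dvd_of_le hle))
  have hPcard : Nat.card (P : Subgroup S) = p := by
    letI : Fintype (P : Subgroup S) := Fintype.ofFinite _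
    obtain ⟨a, ha⟩ := exists_nat_classInner (isCharacter_restrict (P : Subgroup S)
      (isCharacter_of_isIrrCharacter χp.2)) (isCharacter_one (G := (P : Subgroup S)))
    have h1 : classInner (fun n : (P : Subgroup S) => (χp : S → ℂ) n) (fun _ => (1 : ℂ)) =
        (Nat.card (P : Subgroup S) : ℂ)⁻¹ * (χp : S → ℂ) 1 := by
      rw [classInner_def]
      congr 1
      rw [Finset.sum_eq_single (1 : (P : Subgroup S))]
      · simp
      · intro y _ hy
        rw [hvan y y.2 (fun h => hy (Subtype.ext h))]
        simp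
      · intro h
        exact absurd (Finset.mem_univ _) h
    rw [h1, ← charDegree_natCast (isCharacter_of_isIrrCharacter χp.2), hχp] at ha
    have hc0 : (Nat.card (P : Subgroup S) : ℂ) ≠ 0 := by exact_mod_cast Nat.card_pos.ne'
    have h2 : (p : ℂ) = (Nat.card (P : Subgroup S) : ℂ) * a := by
      rw [← ha]
      field_simp
    have h3 : p = Nat.card (P : Subgroup S) * a := by exact_mod_cast h2
    have hdvd : Nat.card (P : Subgroup S) ∣ p := ⟨a, h3⟩
    rcases (Nat.dvd_prime hp).mp hdvd with h4 | h4
    · exfalso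
      have h5 : (P : Subgroup S) = ⊥ := Subgroup.card_eq_one.mp h4
      apply P.not_dvd_index
      rw [h5, Subgroup.index_bot]
      exact hpd
    · exact h4
  -- `e ≥ 2`
  have he : (Subgroup.centralizer ((P : Subgroup S) : Set S)).relIndex
      (Subgroup.normalizer ((P : Subgroup S) : Set S)) ≠ 1 := by
    intro h1
    have hle := Subgroup.relIndex_eq_one.mp h1
    have hcomp := MonoidHom.ker_transferSylow_isComplement' P hle
    set K := (MonoidHom.transferSylow P hle).ker with hK
    have hKn : K.Normal := MonoidHom.normal_ker _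
    rcases IsSimpleGroup.eq_bot_or_eq_top_of_normal K hKn with h0 | h0
    · rw [h0] at hcomp
      have h2 : (P : Subgroup S) = ⊤ := by
        have h3 := hcomp.sup_eq_top
        simpa using h3
      obtain ⟨a, b, hab⟩ := hna
      exact hab (hPc a (by rw [h2]; trivial) b (by rw [h2]; trivial))
    · rw [h0] at hcomp
      have h2 : (P : Subgroup S) = ⊥ := by
        have h3 := hcomp.disjoint
        simpa using h3
      apply P.not_dvd_index
      rw [h2, Subgroup.index_bot]
      exact hpd
  have he0 : (Subgroup.centralizer ((P : Subgroup S) : Set S)).relIndex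
      (Subgroup.normalizer ((P : Subgroup S) : Set S)) ≠ 0 := by
    show ((Subgroup.centralizer ((P : Subgroup S) : Set S)).subgroupOf
      (Subgroup.normalizer ((P : Subgroup S) : Set S))).index ≠ 0
    exact Subgroup.index_ne_zero_of_finite
  set e := (Subgroup.centralizer ((P : Subgroup S) : Set S)).relIndex
      (Subgroup.normalizer ((P : Subgroup S) : Set S)) with hedef
  obtain ⟨M, hM⟩ := Cfsg.Agent.Lib.BlockH.Basic.exists_isPModular hp
  obtain ⟨X, Y, -, -, hXc, -, εX, ε, hX, -⟩ := Cfsg.Agent.S4441.result p M hM (by omega) P hPcard e rfl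
  have hX1 : 1 < X.ncard := by
    rw [← Nat.card_coe_set_eq, hXc]
    omega
  obtain ⟨χ₀, hχ₀X, hχ₀⟩ := Set.exists_ne_of_one_lt_ncard hX1 (one' S)
  obtain ⟨hε, hcong, -⟩ := hX χ₀ hχ₀X
  have hd1 := deg_ne_one hna χ₀ hχ₀
  obtain ⟨hprime, -, hle⟩ := hdeg χ₀ hd1
  have hq2 := hprime.two_le
  rcases hε with hε | hε
  · rw [hε] at hcong
    have h1 : (p : ℤ) ∣ (charDegree (χ₀ : S → ℂ) : ℤ) - 1 := by
      exact (Int.modEq_iff_dvd.mp hcong.symm)
    have h2 := Int.le_of_dvd (by omega) h1
    omega
  · rw [hε] at hcong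
    have h1 : (p : ℤ) ∣ (charDegree (χ₀ : S → ℂ) : ℤ) + 1 := by
      have := Int.modEq_iff_dvd.mp hcong.symm
      simpa using this
    obtain ⟨c, hc⟩ := h1
    have hc1 : 0 < c := by
      by_contra hc0
      have : c ≤ 0 := by omega
      nlinarith
    have hc2 : c = 1 := by
      by_contra hne
      have : 2 ≤ c := by omega
      nlinarith
    rw [hc2, mul_one] at hc
    have hq : charDegree (χ₀ : S → ℂ) + 1 = p := by exact_mod_cast hc
    rcases hprime.eq_two_or_odd with h4 | h4
    · omega
    · have := hp.eq_two_or_odd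
      omega

end Simple

section General

/-- The hypothesis. -/
def Hyp (G : Type u) [Group G] : Prop :=
  ∀ χ : IrrCharacter G, charDegree (χ : G → ℂ) ≠ 1 → (charDegree (χ : G → ℂ)).Prime

variable {G : Type u} [Group G] [Finite G]

theorem Hyp.normal (h : Hyp G) (N : Subgroup G) (hN : N.Normal) : Hyp N := by
  classical
  letI := Fintype.ofFinite G
  letI : Fintype N := Fintype.ofFinite _
  intro φ hφ
  obtain ⟨ξ, hξ⟩ := Cfsg.Agent.Lib.BlockT.NormalP.exists_irr_over (G := G) (N := N) φ
  have h1 := clifford_restrict hN ξ.2 φ.2 hξ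
  have h2 := congrFun h1 1
  simp only [Subgroup.coe_one, Pi.smul_apply, Finset.sum_apply, smul_eq_mul] at h2
  have h3 : ∑ ψ ∈ orbitFinset hN (φ : N → ℂ), ψ 1 = ((orbitFinset hN (φ : N → ℂ)).card : ℂ) * (φ : N → ℂ) 1 := by
    rw [← nsmul_eq_mul, ← Finset.sum_const]
    refine Finset.sum_congr rfl fun ψ hψ => ?_
    obtain ⟨g, rfl⟩ := (mem_orbitFinset hN (φ : N → ℂ) ψ).mp hψ
    rw [conjOn_apply]
    exact congrArg _ (Subtype.ext (by simp))
  obtain ⟨m, hm⟩ := exists_nat_classInner (isCharacter_restrict N (isCharacter_of_isIrrCharacter ξ.2))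
    (isCharacter_of_isIrrCharacter φ.2)
  rw [h3, hm, ← charDegree_natCast (isCharacter_of_isIrrCharacter φ.2),
    ← charDegree_natCast (isCharacter_of_isIrrCharacter ξ.2)] at h2
  have h4 : charDegree (ξ : G → ℂ) = m * ((orbitFinset hN (φ : N → ℂ)).card * charDegree (φ : N → ℂ)) := by
    exact_mod_cast h2
  have hdvd : charDegree (φ : N → ℂ) ∣ charDegree (ξ : G → ℂ) := by
    rw [h4]
    exact Dvd.dvd.mul_left (Dvd.dvd.mul_left dvd_rfl _) _
  have hpos := charDegree_pos ξ.2
  have hξ1 : charDegree (ξ : G → ℂ) ≠ 1 := by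
    intro h5
    rw [h5] at hdvd
    exact hφ (Nat.dvd_one.mp hdvd)
  have hp := h ξ hξ1
  rcases (Nat.dvd_prime hp).mp hdvd with h6 | h6
  · exact absurd h6 hφ
  · rw [h6]; exact hp

theorem Hyp.quotient (h : Hyp G) (N : Subgroup G) (hN : N.Normal) : Hyp (G ⧸ N) := by
  classical
  intro φ hφ
  have hir := Cfsg.Agent.Lib.Char.Linear.isIrrCharacter_comp (QuotientGroup.mk' N)
    (QuotientGroup.mk'_surjective N) φ.2
  have hd : charDegree ((φ : G ⧸ N → ℂ) ∘ QuotientGroup.mk' N) = charDegree (φ : G ⧸ N → ℂ) := by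
    apply charDegree_eq_of_eq_natCast
    simp only [Function.comp, map_one]
    exact (charDegree_natCast (isCharacter_of_isIrrCharacter φ.2)).symm
  have hφ' : charDegree (((⟨_, hir⟩ : IrrCharacter G) : G → ℂ)) ≠ 1 := by
    change charDegree ((φ : G ⧸ N → ℂ) ∘ QuotientGroup.mk' N) ≠ 1
    rw [hd]
    exact hφ
  have := h ⟨_, hir⟩ hφ'
  change (charDegree ((φ : G ⧸ N → ℂ) ∘ QuotientGroup.mk' N)).Prime at this
  rw [hd] at this
  exact this

/-- The main theorem: solvability. -/
theorem main (h : Hyp G) : Group.IsSolvable G := by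
  classical
  induction' hn : Nat.card G using Nat.strong_induction_on with n ih generalizing G
  subst hn
  by_cases hc : commutator G = ⊤
  · -- perfect
    by_cases htriv : Subsingleton G
    · exact inferInstance
    · exfalso
      obtain ⟨M, hM⟩ : ∃ M : Subgroup G, Maximal (fun N : Subgroup G => N.Normal ∧ N ≠ ⊤) M := by
        obtain ⟨M, -, hM⟩ := (Set.toFinite {N : Subgroup G | N.Normal ∧ N ≠ ⊤}).exists_le_maximal
          (a := ⊥) ⟨inferInstance, by
            intro h0
            apply htriv
            exact Subgroup.subsingleton_iff.mp (subsingleton_of_bot_eq_top h0)⟩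
        exact ⟨M, hM⟩
      have hMn : M.Normal := hM.prop.1
      have hMt : M ≠ ⊤ := hM.prop.2
      haveI : IsSimpleGroup (G ⧸ M) := by
        haveI : Nontrivial (G ⧸ M) := QuotientGroup.nontrivial_iff.mpr hMt
        refine ⟨fun K hK => ?_⟩
        by_cases hKt : K = ⊤
        · exact Or.inr hKt
        · left
          have hc1 : (K.comap (QuotientGroup.mk' M)).Normal := hK.comap _
          have hle : M ≤ K.comap (QuotientGroup.mk' M) := by
            intro x hx
            have : (QuotientGroup.mk' M) x = 1 := (QuotientGroup.eq_one_iff x).mpr hx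
            rw [Subgroup.mem_comap, this]
            exact K.one_mem
          have hne : K.comap (QuotientGroup.mk' M) ≠ ⊤ := by
            intro h0
            apply hKt
            rw [eq_top_iff]
            intro y _
            obtain ⟨x, rfl⟩ := QuotientGroup.mk'_surjective M y
            have : x ∈ K.comap (QuotientGroup.mk' M) := by rw [h0]; trivial
            exact this
          have heq : M = K.comap (QuotientGroup.mk' M) := by
            apply le_antisymm hle
            exact hM.le_of_ge ⟨hc1, hne⟩ hle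
          rw [eq_bot_iff]
          intro y hy
          obtain ⟨x, rfl⟩ := QuotientGroup.mk'_surjective M y
          have : x ∈ M := by rw [heq]; exact hy
          exact (QuotientGroup.eq_one_iff x).mpr this
      have hna : ∃ a b : G ⧸ M, a * b ≠ b * a := by
        by_contra hno
        push Not at hno
        apply hMt
        rw [eq_top_iff, ← hc]
        rw [commutator_def, Subgroup.commutator_le]
        intro x _ y _
        have h1 : (QuotientGroup.mk' M) (x * y * x⁻¹ * y⁻¹) = 1 := by
          rw [map_mul, map_mul, map_mul, map_inv, map_inv, hno ((QuotientGroup.mk' M) x)]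
          group
        exact (QuotientGroup.eq_one_iff _).mp h1
      exact simple_false hna (h.quotient M hMn)
  · -- not perfect
    have hlt : Nat.card (commutator G) < Nat.card G := by
      have h1 := Subgroup.card_mul_index (commutator G)
      have h2 : (commutator G).index ≠ 1 := fun h3 => hc (Subgroup.index_eq_one.mp h3)
      have h3 : (commutator G).index ≠ 0 := Subgroup.index_ne_zero_of_finite
      have h4 : 0 < Nat.card (commutator G) := Nat.card_pos
      have h5 : 2 ≤ (commutator G).index := by omega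
      nlinarith
    haveI hsol : Group.IsSolvable (commutator G) :=
      ih _ hlt (h.normal _ inferInstance) rfl
    exact Group.isSolvable_of_ker_le_range (commutator G).subtype (Abelianization.of (G := G)) (by
      rw [Abelianization.ker_of]
      intro x hx
      exact ⟨⟨x, hx⟩, rfl⟩)

end General

end Cfsg.Agent.Lib.CharDeg.PrimeDeg
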